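import Cfsg.Agent.Lib.SpShort.Rels
import Cfsg.Agent.Lib.SLShort.Shrink
import Cfsg.Agent.Lib.SLShort.Gen2
import Cfsg.Agent.Lib.StSL.Presentation
import Cfsg.Agent.S2278
import Cfsg.Agent.S2279
import Cfsg.Agent.S2286
import Cfsg.Prelude.Def_ClassicalGeometry

/-!
# The presentations of the symplectic groups with their sizes
-/

namespace CfsgLib.SpShort

open CfsgLib.ShortPres (Presents)

theorem closure_pair_top (K : Type) [Field K] [Fintype K] (k : ℕ) :
    ∃ u v : Matrix.SpecialLinearGroup (Fin (k + 1)) K, Subgroup.closure {u, v} = ⊤ := by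
  classical
  rcases k with _ | _ | _ | k
  · refine ⟨1, 1, eq_top_iff.2 fun g _ => ?_⟩
    rw [show g = 1 from Subtype.ext (by
      have h := g.2
      rw [Matrix.det_fin_one] at h
      ext i j
      fin_cases i; fin_cases j
      simpa using h)]
    exact one_mem _
  · by_cases h4 : 4 ≤ Fintype.card K
    · exact CfsgLib.SLShort.sl2_two_gens K h4
    · refine ⟨Matrix.SpecialLinearGroup.transvection (show (0 : Fin 2) ≠ 1 by decide) 1,
        Matrix.SpecialLinearGroup.transvection (show (1 : Fin 2) ≠ 0 by decide) 1, ?_⟩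
      rw [eq_top_iff, ← CfsgLib.StSL.closure_transvection_eq_top (le_refl 2), Subgroup.closure_le]
      rintro _ ⟨i, j, h, t, rfl⟩
      set H := Subgroup.closure ({Matrix.SpecialLinearGroup.transvection (show (0 : Fin 2) ≠ 1 by decide) 1,
        Matrix.SpecialLinearGroup.transvection (show (1 : Fin 2) ≠ 0 by decide) 1} :
        Set (Matrix.SpecialLinearGroup (Fin 2) K))
      have hbase : Matrix.SpecialLinearGroup.transvection h (1 : K) ∈ H := by
        fin_cases i <;> fin_cases j <;> simp at h <;>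
          first
          | exact Subgroup.subset_closure (Set.mem_insert _ _)
          | exact Subgroup.subset_closure (Set.mem_insert_of_mem _ rfl)
      have hmul : ∀ s r : K, Matrix.SpecialLinearGroup.transvection h (s + r) =
          Matrix.SpecialLinearGroup.transvection h s * Matrix.SpecialLinearGroup.transvection h r := fun s r =>
        Matrix.SpecialLinearGroup.toGL_injective (by rw [map_mul]; exact tr_add h s r)
      have h0 : Matrix.SpecialLinearGroup.transvection h (0 : K) = 1 :=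
        Matrix.SpecialLinearGroup.toGL_injective (by rw [map_one]; exact tr_zero h)
      have hn : ∀ r : ℕ, Matrix.SpecialLinearGroup.transvection h (r : K) ∈ H := by
        intro r
        induction r with
        | zero => rw [Nat.cast_zero, h0]; exact one_mem _
        | succ r ih => rw [Nat.cast_succ, hmul]; exact mul_mem ih hbase
      -- a field with at most three elements is prime
      obtain ⟨r, rfl⟩ : ∃ r : ℕ, t = r := by
        obtain ⟨p, hp⟩ := CharP.exists K
        haveI := hp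
        haveI : Fact p.Prime := ⟨CharP.char_is_prime K p⟩
        obtain ⟨f, -, hf⟩ := FiniteField.card K p
        have hf1 : (f : ℕ) = 1 := by
          by_contra hne
          have : p ^ 2 ≤ p ^ (f : ℕ) := Nat.pow_le_pow_right (Fact.out : p.Prime).pos (by have := f.pos; omega)
          have : 2 ^ 2 ≤ p ^ 2 := Nat.pow_le_pow_left (Fact.out : p.Prime).two_le 2
          omega
        rw [hf1, pow_one] at hf
        have hinj : Function.Injective fun r : Fin p => ((r : ℕ) : K) := fun a b e =>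
          Fin.ext (CharP.natCast_injOn_Iio K p a.isLt b.isLt e)
        have hbij := (Fintype.bijective_iff_injective_and_card _).2 ⟨hinj, by rw [Fintype.card_fin, hf]⟩
        obtain ⟨r, hr⟩ := hbij.2 t
        exact ⟨r, hr.symm⟩
      exact hn r
  · obtain ⟨u, g, -, -, hg⟩ := Cfsg.Agent.S2278.result (F := K)
    exact ⟨_, _, hg⟩
  · obtain ⟨⟨u, v, -, -, huv⟩, -⟩ := Cfsg.Agent.S2279.result (F := K) (k + 4) (by omega)
    exact ⟨u, v, huv⟩

theorem presents_of_sl {K : Type} [Field K] [Fintype K] {N m : ℕ}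
    {x : Fin m → Matrix.SpecialLinearGroup (Fin (N + 2)) K} {rels : Finset (FreeGroup (Fin m))}
    (hP : Presents rels x) :
    ∃ (y : Fin (m + 3) → Matrix.symplecticGroup (Fin (N + 2)) K) (rels' : Finset (FreeGroup (Fin (m + 3)))),
      rels'.card ≤ rels.card + (if N = 0 then 23 else 24) ∧ Presents rels' y := by
  classical
  obtain ⟨D⟩ := CfsgLib.SLShort.exists_fdata K
  have hgen2 : ∀ a : K, ∃ P : Polynomial ℤ, Polynomial.aeval (D.ω * D.ω) P = a := fun a => by
    obtain ⟨P, hP⟩ := D.gen2 a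
    exact ⟨P, by rw [← pow_two]; exact hP⟩
  have hsq : ∀ a : K, a ≠ 0 → ∃ i : ℕ, a * a = (D.ω * D.ω) ^ i := fun a ha => by
    obtain ⟨j, rfl⟩ := D.root a ha
    exact ⟨j, by rw [mul_pow]⟩
  haveI : Fact D.p.Prime := ⟨D.hp⟩
  haveI : CharP K D.p := by
    obtain ⟨q, hq⟩ := CharP.exists K
    haveI := hq
    have h1 : q ∣ D.p := (CharP.cast_eq_zero_iff K q D.p).1 D.hp0
    rcases D.hp.eq_one_or_self_of_dvd q h1 with h | h
    · exact absurd h (CharP.char_ne_one K q)
    · rw [← h]; exact hq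
  obtain ⟨f, -, hf⟩ := FiniteField.card K D.p
  obtain ⟨R, hRlen, hR⟩ := CfsgLib.SL2Pres.exists_moduleRels D.p hf (D.ω * D.ω) hgen2 hsq
  obtain ⟨u, v, huv⟩ := closure_pair_top K (N + 1)
  obtain ⟨a, b, hab⟩ := closure_pair_top K N
  let I : Inp K N :=
    { m := m, x := x, rels := rels, hP := hP, ω := Units.mk0 D.ω D.hω
      gen := fun c => by
        obtain ⟨j, hj⟩ := D.root c c.ne_zero
        exact ⟨j, Units.ext (by rw [Units.val_pow_eq_pow_val, Units.val_mk0]; exact hj)⟩
      gen2 := hgen2, R := R, hR := hR, hRlen := by split_ifs at hRlen <;> omega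
      u := u, v := v, huv := huv, a := a, b := b, hab := hab }
  obtain ⟨y, rels', hc, hP'⟩ := CfsgLib.SLShort.presents_of_list
    (finSumFinEquiv : Fin m ⊕ Fin 3 ≃ Fin (m + 3)) I.relL I.f₀ I.exists_isom
  exact ⟨y, rels', hc.trans I.length_relL, hP'⟩

/-- Sizes of the presentations. -/
theorem exists_sp_presentation (K : Type) [Field K] [Fintype K] (N : ℕ) :
    ∃ (k : ℕ) (y : Fin k → Matrix.symplecticGroup (Fin (N + 2)) K) (rels : Finset (FreeGroup (Fin k))),
      Presents rels y ∧ (N = 0 → k = 6 ∧ rels.card ≤ 32) ∧ (N = 1 → k = 7 ∧ rels.card ≤ 38) ∧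
      (N = 2 → k = 8 ∧ rels.card ≤ 43) ∧ (N = 3 → k = 8 ∧ rels.card ≤ 44) ∧
      (2 ≤ N → k ≤ 9 ∧ rels.card + 7 ≤ 46 + k) := by
  classical
  rcases N with _ | M
  · obtain ⟨⟨rels, hc, ⟨e⟩⟩, -, -⟩ := Cfsg.Agent.S2286.result (F := K)
    haveI : Finite (Matrix.SpecialLinearGroup (Fin 2) K) := Subtype.finite
    obtain ⟨y, rels', hc', hP'⟩ := presents_of_sl (N := 0) (Presents.of_iso e (fun _ => rfl))
    exact ⟨6, y, rels', hP', fun _ => ⟨rfl, by rw [if_pos rfl] at hc'; omega⟩, fun h => by omega,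
      fun h => by omega, fun h => by omega, fun h => by omega⟩
  · obtain ⟨m, x, rels, hP, h0, h1, h2, h⟩ := CfsgLib.SLShort.exists_sl_presentation K M
    obtain ⟨y, rels', hc', hP'⟩ := presents_of_sl (N := M + 1) hP
    rw [if_neg (by omega)] at hc'
    refine ⟨m + 3, y, rels', hP', fun hN => by omega, fun hN => ?_, fun hN => ?_, fun hN => ?_, fun hN => ?_⟩
    · obtain ⟨rfl, hc⟩ := h0 (by omega); exact ⟨rfl, by omega⟩
    · obtain ⟨rfl, hc⟩ := h1 (by omega); exact ⟨rfl, by omega⟩
    · obtain ⟨rfl, hc⟩ := h2 (by omega); exact ⟨rfl, by omega⟩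
    · obtain ⟨hm, hc⟩ := h (by omega); exact ⟨by omega, by omega⟩

/-- Passing to the projective group. -/
theorem presents_psp {K : Type} [Field K] [Fintype K] {n k : ℕ} (hn : 1 ≤ n)
    {y : Fin k → Matrix.symplecticGroup (Fin n) K} {rels : Finset (FreeGroup (Fin k))} (h : Presents rels y) :
    ∃ (y' : Fin k → Cfsg.PSp n K) (rels' : Finset (FreeGroup (Fin k))),
      rels'.card ≤ rels.card + 1 ∧ Presents rels' y' := by
  classical
  haveI : Finite (Matrix.symplecticGroup (Fin n) K) := Subtype.finite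
  let z : Matrix.symplecticGroup (Fin n) K :=
    ⟨Matrix.scalar _ (-1 : K), (CfsgLib.SympTransvection.scalar_mem_iff hn _).2 (by ring)⟩
  have hz : z ∈ Subgroup.center (Matrix.symplecticGroup (Fin n) K) := Subgroup.mem_center_iff.2 fun g =>
    Subtype.ext ((Matrix.scalar_commute (-1 : K) (fun _ => Commute.all _ _) g.1).eq).symm
  obtain ⟨rels', hc, hP⟩ := h.quot (QuotientGroup.mk' (Subgroup.center _)) (QuotientGroup.mk'_surjective _) z (by
    rw [QuotientGroup.ker_mk']
    refine le_antisymm (fun g hg => ?_) (Subgroup.zpowers_le.2 hz)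
    obtain ⟨r, hr⟩ := CfsgLib.SympTransvection.scalar_of_central g hg
    have hr2 : r ^ 2 = 1 := (CfsgLib.SympTransvection.scalar_mem_iff hn r).1 (hr ▸ g.2)
    rcases sq_eq_one_iff.1 hr2 with rfl | rfl
    · rw [show g = 1 from Subtype.ext (by rw [hr, map_one]; rfl)]
      exact one_mem _
    · rw [show g = z from Subtype.ext hr]
      exact Subgroup.mem_zpowers z)
  exact ⟨_, rels', hc, hP⟩

section Congr

variable {R S : Type*} [Field R] [Field S] (n : ℕ) (e : R ≃+* S)

theorem map_mem_sp {R S : Type*} [Field R] [Field S] {n : ℕ} (f : R →+* S)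
    {A : Matrix (Fin n ⊕ Fin n) (Fin n ⊕ Fin n) R} (hA : A ∈ Matrix.symplecticGroup (Fin n) R) :
    A.map f ∈ Matrix.symplecticGroup (Fin n) S := by
  rw [SymplecticGroup.mem_iff] at hA ⊢
  have hJ : (Matrix.J (Fin n) R).map f = Matrix.J (Fin n) S := by
    ext (i | i) (j | j) <;> simp [Matrix.J, Matrix.one_apply, apply_ite f]
  rw [← hJ, ← Matrix.transpose_map, ← Matrix.map_mul, ← Matrix.map_mul, hA]

/-- Transport of symplectic groups. -/
def spCongr : Matrix.symplecticGroup (Fin n) R ≃* Matrix.symplecticGroup (Fin n) S where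
  toFun A := ⟨A.1.map (e : R →+* S), map_mem_sp _ A.2⟩
  invFun A := ⟨A.1.map (e.symm : S →+* R), map_mem_sp _ A.2⟩
  left_inv A := Subtype.ext (by ext i j; simp)
  right_inv A := Subtype.ext (by ext i j; simp)
  map_mul' A B := Subtype.ext (Matrix.map_mul (f := (e : R →+* S)))

/-- Transport of projective groups. -/
noncomputable def pspCongr : Cfsg.PSp n R ≃* Cfsg.PSp n S :=
  QuotientGroup.congr _ _ (spCongr n e) (CfsgLib.SLShort.map_center_eq _)

end Congr

/-- Both groups over an arbitrary field, on `c` generators. -/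
theorem padded (F : Type*) [Field F] [Fintype F] (N c b : ℕ)
    (h : ∀ (K : Type) [Field K] [Fintype K], ∃ (k : ℕ) (y : Fin k → Matrix.symplecticGroup (Fin (N + 2)) K)
      (rels : Finset (FreeGroup (Fin k))), Presents rels y ∧ k ≤ c ∧ rels.card + c ≤ b + k) :
    (∃ rels : Finset (FreeGroup (Fin c)), rels.card ≤ b ∧
      Nonempty (PresentedGroup (↑rels : Set (FreeGroup (Fin c))) ≃* Matrix.symplecticGroup (Fin (N + 2)) F)) ∧
    (∃ rels : Finset (FreeGroup (Fin c)), rels.card ≤ b + 1 ∧
      Nonempty (PresentedGroup (↑rels : Set (FreeGroup (Fin c))) ≃* Cfsg.PSp (N + 2) F)) := by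
  classical
  obtain ⟨K, _, _, -, ⟨r⟩⟩ := CfsgLib.SLShort.exists_small_field F
  haveI : Finite (Matrix.symplecticGroup (Fin (N + 2)) K) := Subtype.finite
  obtain ⟨k, y, rels, hP, hk, hb⟩ := h K
  constructor
  · obtain ⟨rels', hc, ⟨e⟩⟩ := CfsgLib.SLShort.pad hk hP
    exact ⟨rels', by omega, ⟨e.trans (spCongr _ r)⟩⟩
  · obtain ⟨y', rels₁, hc₁, hP₁⟩ := presents_psp (by omega) hP
    obtain ⟨rels', hc, ⟨e⟩⟩ := CfsgLib.SLShort.pad hk hP₁
    exact ⟨rels', by omega, ⟨e.trans (pspCongr _ r)⟩⟩

end CfsgLib.SpShort
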