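import Cfsg.Agent.Lib.SpShort.GLTools
import Mathlib.FieldTheory.Finite.Basic

/-!
# The module of symmetric matrices inside a group
-/

namespace CfsgLib.SpShort

open Matrix

variable {F : Type*} [Field F]

theorem squares_induct [Finite F] (p : F → Prop) (h0 : p 0) (hadd : ∀ a b, p a → p b → p (a + b))
    (hneg : ∀ a, p a → p (-a)) (hsq : ∀ a, a ≠ 0 → p (a * a)) : ∀ a, p a := by
  intro a
  have hsq' : ∀ a, p (a * a) := fun a => by
    by_cases ha : a = 0
    · subst ha; rw [mul_zero]; exact h0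
    · exact hsq a ha
  haveI := Fintype.ofFinite F
  by_cases h2 : (2 : F) = 0
  · haveI : CharP F 2 := CharTwo.of_one_ne_zero_of_two_eq_zero one_ne_zero h2
    obtain ⟨b, hb⟩ := FiniteField.isSquare_of_char_two (ringChar.eq F 2) a
    exact hb ▸ hsq' b
  · have : a = ((a + 1) / 2) * ((a + 1) / 2) + -(((a - 1) / 2) * ((a - 1) / 2)) := by field_simp; ring
    rw [this]
    exact hadd _ _ (hsq' _) (hneg _ (hsq' _))

variable {N : ℕ} {G : Type*} [Group G]

/-- The unit vectors. -/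
abbrev bv (i : Fin (N + 2)) : Fin (N + 2) → F := Pi.single i 1

theorem z01 : (0 : Fin (N + 2)) ≠ 1 := by simp [Fin.ext_iff]

/-- A long root group with the Levi subgroup acting on it, and a few relations. -/
structure SymData (F : Type*) [Field F] (N : ℕ) (G : Type*) [Group G] where
  ψ : GL (Fin (N + 2)) F →* G
  z : Multiplicative F →* G
  ω : Fˣ
  gen : ∀ a : Fˣ, ∃ k : ℕ, a = ω ^ k
  scaleω : ∀ u, ψ (dg 0 ω) * z (Multiplicative.ofAdd u) * (ψ (dg 0 ω))⁻¹ =
    z (Multiplicative.ofAdd ((ω : F) * ω * u))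
  fixE : ∀ B : GL (Fin (N + 1)) F, Commute (ψ (emb B)) (z (Multiplicative.ofAdd 1))
  fixT : Commute (ψ (tr z01 1)) (z (Multiplicative.ofAdd 1))
  comm : Commute (z (Multiplicative.ofAdd 1))
    (ψ (pm (Equiv.swap 0 1)) * z (Multiplicative.ofAdd 1) * (ψ (pm (Equiv.swap 0 1)))⁻¹)

namespace SymData

variable [Finite F] (D : SymData F N G)

/-- The element of the long root group. -/
def zz (u : F) : G := D.z (Multiplicative.ofAdd u)

omit [Finite F] in
theorem zz_add (u t : F) : D.zz (u + t) = D.zz u * D.zz t := map_mul D.z _ _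

omit [Finite F] in
theorem zz_zero : D.zz 0 = 1 := map_one D.z

omit [Finite F] in
theorem zz_neg (u : F) : D.zz (-u) = (D.zz u)⁻¹ :=
  eq_inv_of_mul_eq_one_left (by rw [← zz_add, neg_add_cancel, zz_zero])

/-- A conjugate. -/
def cjz (A : GL (Fin (N + 2)) F) (u : F) : G := D.ψ A * D.zz u * (D.ψ A)⁻¹

omit [Finite F] in
theorem cjz_one (u : F) : D.cjz 1 u = D.zz u := by simp [cjz]

omit [Finite F] in
theorem cjz_mul (A B : GL (Fin (N + 2)) F) (u : F) : D.cjz (A * B) u = D.ψ A * D.cjz B u * (D.ψ A)⁻¹ := by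
  simp only [cjz, map_mul]; group

omit [Finite F] in
theorem fix_one {A : GL (Fin (N + 2)) F} (h : gv A (bv 0) = bv 0) : Commute (D.ψ A) (D.zz 1) := by
  classical
  obtain ⟨B, r, rfl⟩ := eq_mul_of_fix_col A h
  rw [map_mul]
  refine (D.fixE B).mul_left ?_
  have conjE : ∀ (C : GL (Fin (N + 1)) F) (r r' : Fin (N + 1) → F), emb C * rowU r * (emb C)⁻¹ = rowU r' →
      Commute (D.ψ (rowU r)) (D.zz 1) → Commute (D.ψ (rowU r')) (D.zz 1) := by
    intro C r r' e hc
    rw [← e, map_mul, map_mul, map_inv]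
    exact (((D.fixE C).mul_left hc).mul_left (D.fixE C).inv_left)
  have h0 : ∀ a : F, Commute (D.ψ (rowU (Pi.single (0 : Fin (N + 1)) a))) (D.zz 1) := by
    intro a
    by_cases ha : a = 0
    · subst ha; rw [Pi.single_zero, rowU_zero, map_one]; exact Commute.one_left _
    refine conjE (dg 0 (Units.mk0 a ha)⁻¹) (Pi.single 0 1) _ ?_ ?_
    · refine conj_eq fun v => ?_
      rw [← Fin.cons_self_tail v]
      simp only [gv_emb, gv_rowU, single_dotProduct, gv_dg, Function.update_self, Units.val_inv_eq_inv_val,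
        Units.val_mk0, one_mul]
      congr 2
      field_simp
    · have e : (rowU (Pi.single (0 : Fin (N + 1)) (1 : F))) = tr z01 1 := by
        rw [rowU_single]; rfl
      rw [e]; exact D.fixT
  have hj : ∀ (j : Fin (N + 1)) (a : F), Commute (D.ψ (rowU (Pi.single j a))) (D.zz 1) := by
    intro j a
    refine conjE (pm (Equiv.swap 0 j)) (Pi.single 0 a) _ ?_ (h0 a)
    refine conj_eq fun v => ?_
    rw [← Fin.cons_self_tail v]
    simp only [gv_emb, gv_rowU, single_dotProduct, gv_pm, Function.comp_apply, Equiv.symm_swap,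
      Equiv.swap_apply_right]
  rw [← Finset.univ_sum_single r]
  exact Finset.sum_induction _ (fun r => Commute (D.ψ (rowU r)) (D.zz 1))
    (fun a b ha hb => by rw [rowU_add, map_mul]; exact ha.mul_left hb)
    (by rw [rowU_zero, map_one]; exact Commute.one_left _) fun j _ => hj j _

omit [Finite F] in
theorem scale_pow (k : ℕ) (u : F) : D.cjz (dg 0 (D.ω ^ k)) u = D.zz (((D.ω ^ k : Fˣ) : F) * (D.ω ^ k : Fˣ) * u) := by
  induction k generalizing u with
  | zero => simp [cjz]
  | succ k ih =>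
    rw [pow_succ', map_mul, cjz_mul, ih]
    refine (D.scaleω _).trans ?_
    show D.zz _ = _
    congr 1
    push_cast
    ring

omit [Finite F] in
theorem scale_diag (a : Fˣ) (u : F) : D.cjz (dg 0 a) u = D.zz ((a : F) * a * u) := by
  obtain ⟨k, rfl⟩ := D.gen a
  exact D.scale_pow k u

omit [Finite F] in
theorem gv_dg_bv (a : Fˣ) : gv (dg 0 a) (bv (0 : Fin (N + 2))) = (a : F) • bv 0 := by
  funext p
  by_cases hp : p = 0
  · subst hp; simp [gv_dg]
  · simp [gv_dg, hp]

theorem fix {A : GL (Fin (N + 2)) F} (h : gv A (bv 0) = bv 0) (u : F) : Commute (D.ψ A) (D.zz u) := by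
  suffices key : ∀ A : GL (Fin (N + 2)) F, gv A (bv 0) = bv 0 → Commute (D.ψ A) (D.zz u) from key A h
  clear h A
  refine squares_induct (fun u => ∀ A : GL (Fin (N + 2)) F, gv A (bv 0) = bv 0 → Commute (D.ψ A) (D.zz u))
    ?_ ?_ ?_ ?_ u
  · intro A _; rw [zz_zero]; exact Commute.one_right _
  · intro a b ha hb A hA; rw [zz_add]; exact (ha A hA).mul_right (hb A hA)
  · intro a ha A hA; rw [zz_neg]; exact (ha A hA).inv_right
  · intro a ha A hA
    have e := D.scale_diag (Units.mk0 a ha) 1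
    rw [Units.val_mk0, mul_one] at e
    rw [← e, cjz]
    set d : GL (Fin (N + 2)) F := dg 0 (Units.mk0 a ha)
    have hf : gv (d⁻¹ * A * d) (bv 0) = bv 0 := by
      have hd : gv d (bv 0) = a • bv 0 := gv_dg_bv _
      rw [gv_mul, gv_mul, hd, gv_smul, hA, ← hd, gv_inv]
    have hc := (D.fix_one hf).conj (D.ψ d)
    rw [map_mul, map_mul, map_inv] at hc
    rwa [show D.ψ d * ((D.ψ d)⁻¹ * D.ψ A * D.ψ d) * (D.ψ d)⁻¹ = D.ψ A by group] at hc

theorem cjz_eq {A B : GL (Fin (N + 2)) F} (h : gv A (bv 0) = gv B (bv 0)) (u : F) : D.cjz A u = D.cjz B u := by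
  have hf : gv (B⁻¹ * A) (bv 0) = bv 0 := by rw [gv_mul, h, gv_inv]
  have e : A = B * (B⁻¹ * A) := by group
  have hc : D.cjz (B⁻¹ * A) u = D.zz u := by
    rw [cjz, (D.fix hf u).eq, mul_inv_cancel_right]
  rw [e, cjz_mul, hc]
  rfl

open Classical in
/-- The element attached to a vector. -/
noncomputable def Zv (v : Fin (N + 2) → F) (u : F) : G :=
  if h : v ≠ 0 then D.cjz (exists_col h).choose u else 1

theorem Zv_eq {A : GL (Fin (N + 2)) F} {v : Fin (N + 2) → F} (h : gv A (bv 0) = v) (u : F) :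
    D.Zv v u = D.cjz A u := by
  have hv : v ≠ 0 := fun e => by
    have := congrArg (gv A⁻¹) (h.trans e)
    rw [gv_inv, gv_zero] at this
    simpa using congrFun this 0
  rw [Zv, dif_pos hv]
  exact D.cjz_eq ((exists_col hv).choose_spec.trans h.symm) u

theorem Zv_bv (u : F) : D.Zv (bv 0) u = D.zz u := by rw [D.Zv_eq (gv_one _), cjz_one]

omit [Finite F] in
theorem Zv_zero (u : F) : D.Zv 0 u = 1 := by simp [Zv]

theorem Zv_conj (A : GL (Fin (N + 2)) F) (v : Fin (N + 2) → F) (u : F) :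
    D.ψ A * D.Zv v u * (D.ψ A)⁻¹ = D.Zv (gv A v) u := by
  by_cases hv : v = 0
  · subst hv; rw [gv_zero, Zv_zero]; group
  obtain ⟨B, rfl⟩ := exists_col hv
  rw [D.Zv_eq (A := B) rfl, D.Zv_eq (A := A * B) (gv_mul _ _ _), cjz_mul]

omit [Finite F] in
theorem Zv_add (v : Fin (N + 2) → F) (u t : F) : D.Zv v (u + t) = D.Zv v u * D.Zv v t := by
  unfold Zv
  split_ifs
  · simp only [cjz, zz_add]; group
  · rw [one_mul]

theorem Zv_smul (a : F) (v : Fin (N + 2) → F) (u : F) : D.Zv (a • v) u = D.Zv v (a * a * u) := by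
  by_cases ha : a = 0
  · subst ha
    rw [zero_smul, Zv_zero, mul_zero, zero_mul]
    have := D.Zv_add v 0 0
    rw [add_zero] at this
    exact (mul_eq_left.1 this.symm).symm
  by_cases hv : v = 0
  · subst hv; rw [smul_zero, Zv_zero, Zv_zero]
  obtain ⟨A, rfl⟩ := exists_col hv
  rw [D.Zv_eq (A := A) rfl, D.Zv_eq (A := A * dg 0 (Units.mk0 a ha))
    (by rw [gv_mul, gv_dg_bv, gv_smul, Units.val_mk0]), cjz_mul, scale_diag, Units.val_mk0]
  rfl

theorem commute_base (u t : F) : Commute (D.Zv (bv 0) u) (D.Zv (bv 1) t) := by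
  have hswap : gv (pm (Equiv.swap (0 : Fin (N + 2)) 1)) (bv 0) = (bv 1 : Fin (N + 2) → F) := by
    rw [gv_pm_single, Equiv.swap_apply_left]
  have key : ∀ a b : F, a ≠ 0 → b ≠ 0 → Commute (D.Zv (bv 0) (a * a)) (D.Zv (bv 1) (b * b)) := by
    intro a b ha hb
    have h := D.comm
    rw [show D.z (Multiplicative.ofAdd 1) = D.zz 1 from rfl, ← D.Zv_bv 1, D.Zv_conj, hswap] at h
    have hc := h.conj (D.ψ (dg 0 (Units.mk0 a ha) * dg 1 (Units.mk0 b hb)))
    rw [D.Zv_conj, D.Zv_conj] at hc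
    have e0 : gv (dg 0 (Units.mk0 a ha) * dg 1 (Units.mk0 b hb)) (bv 0) = a • (bv 0 : Fin (N + 2) → F) := by
      have h10 : gv (dg 1 (Units.mk0 b hb)) (bv 0) = (bv 0 : Fin (N + 2) → F) := by
        funext p
        simp only [gv_dg, Function.update_apply, Pi.single_apply, Ne.symm z01, if_false, mul_zero]
        split_ifs <;> simp_all [z01]
      rw [gv_mul, h10, gv_dg_bv, Units.val_mk0]
    have e1 : gv (dg 0 (Units.mk0 a ha) * dg 1 (Units.mk0 b hb)) (bv 1) = b • (bv 1 : Fin (N + 2) → F) := by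
      funext p
      simp only [gv_mul, gv_dg, Function.update_apply, Pi.single_apply, Pi.smul_apply, smul_eq_mul,
        Units.val_mk0, z01, if_false, if_true]
      split_ifs <;> simp_all [z01]
    rwa [e0, e1, Zv_smul, Zv_smul, mul_one, mul_one] at hc
  have hzero : ∀ v, D.Zv v 0 = 1 := fun v => by
    have := D.Zv_add v 0 0
    rw [add_zero] at this
    exact mul_eq_left.1 this.symm
  have hneg : ∀ v a, D.Zv v (-a) = (D.Zv v a)⁻¹ := fun v a =>
    eq_inv_of_mul_eq_one_left (by rw [← D.Zv_add, neg_add_cancel, hzero])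
  revert t
  refine squares_induct (fun u => ∀ t, Commute (D.Zv (bv 0) u) (D.Zv (bv 1) t)) ?_ ?_ ?_ ?_ u
  · intro t; rw [hzero]; exact Commute.one_left _
  · intro a b ha hb t; rw [Zv_add]; exact (ha t).mul_left (hb t)
  · intro a ha t; rw [hneg]; exact (ha t).inv_left
  intro a ha
  refine squares_induct (fun t => Commute (D.Zv (bv 0) (a * a)) (D.Zv (bv 1) t)) ?_ ?_ ?_ ?_
  · rw [hzero]; exact Commute.one_right _
  · intro b c hb hc; rw [Zv_add]; exact hb.mul_right hc
  · intro b hb; rw [hneg]; exact hb.inv_right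
  exact fun b hb => key a b ha hb

theorem commute_all (v w : Fin (N + 2) → F) (u t : F) : Commute (D.Zv v u) (D.Zv w t) := by
  by_cases hv : v = 0
  · subst hv; rw [Zv_zero]; exact Commute.one_left _
  by_cases hw : ∃ a : F, w = a • v
  · obtain ⟨a, rfl⟩ := hw
    rw [Zv_smul]
    show _ * _ = _ * _
    rw [← Zv_add, ← Zv_add, add_comm]
  push Not at hw
  obtain ⟨A, hA0, hA1⟩ := exists_pair hv hw
  rw [← hA0, ← hA1, ← Zv_conj, ← Zv_conj]
  exact (D.commute_base u t).conj _

/-- The subgroup generated by all the elements. -/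
noncomputable def M : Subgroup G := Subgroup.closure (Set.range fun p : (Fin (N + 2) → F) × F => D.Zv p.1 p.2)

theorem commute_M {a b : G} (ha : a ∈ D.M) (hb : b ∈ D.M) : Commute a b := by
  induction ha using Subgroup.closure_induction with
  | mem a ha =>
    obtain ⟨⟨v, u⟩, rfl⟩ := ha
    induction hb using Subgroup.closure_induction with
    | mem b hb => obtain ⟨⟨w, t⟩, rfl⟩ := hb; exact D.commute_all v w u t
    | one => exact Commute.one_right _
    | mul b c _ _ h1 h2 => exact h1.mul_right h2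
    | inv b _ h => exact h.inv_right
  | one => exact Commute.one_left _
  | mul a c _ _ h1 h2 => exact h1.mul_left h2
  | inv a _ h => exact h.inv_left

noncomputable instance commGroupM : CommGroup D.M :=
  { (inferInstance : Group D.M) with mul_comm := fun a b => Subtype.ext (D.commute_M a.2 b.2).eq }

/-- The element, inside the abelian subgroup. -/
noncomputable def Zm (v : Fin (N + 2) → F) (u : F) : D.M := ⟨D.Zv v u, Subgroup.subset_closure ⟨(v, u), rfl⟩⟩

/-- Conjugation on the abelian subgroup. -/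
noncomputable def cjM (A : GL (Fin (N + 2)) F) : D.M →* D.M :=
  ((MulAut.conj (D.ψ A)).toMonoidHom.comp D.M.subtype).codRestrict D.M fun a => by
    have h : D.M ≤ D.M.comap (MulAut.conj (D.ψ A)).toMonoidHom := by
      refine (Subgroup.closure_le _).2 ?_
      rintro _ ⟨⟨v, u⟩, rfl⟩
      show D.ψ A * D.Zv v u * (D.ψ A)⁻¹ ∈ D.M
      rw [Zv_conj]
      exact Subgroup.subset_closure ⟨(gv A v, u), rfl⟩
    exact h a.2

theorem cjM_Zm (A : GL (Fin (N + 2)) F) (v : Fin (N + 2) → F) (u : F) : D.cjM A (D.Zm v u) = D.Zm (gv A v) u :=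
  Subtype.ext (D.Zv_conj A v u)

theorem cjM_coe (A : GL (Fin (N + 2)) F) (a : D.M) : (D.cjM A a : G) = D.ψ A * a * (D.ψ A)⁻¹ := rfl

/-- The pairing. -/
noncomputable def Bm (v w : Fin (N + 2) → F) (u : F) : D.M := D.Zm (v + w) u / (D.Zm v u * D.Zm w u)

theorem Zm_add (v : Fin (N + 2) → F) (u t : F) : D.Zm v (u + t) = D.Zm v u * D.Zm v t :=
  Subtype.ext (D.Zv_add v u t)

theorem Zm_zero (u : F) : D.Zm 0 u = 1 := Subtype.ext (D.Zv_zero u)

theorem Zm_zero_right (v : Fin (N + 2) → F) : D.Zm v 0 = 1 := by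
  have := D.Zm_add v 0 0
  rw [add_zero] at this
  exact left_eq_mul.1 this

theorem Zm_smul (a : F) (v : Fin (N + 2) → F) (u : F) : D.Zm (a • v) u = D.Zm v (a * a * u) :=
  Subtype.ext (D.Zv_smul a v u)

theorem Bm_add (v w : Fin (N + 2) → F) (u t : F) : D.Bm v w (u + t) = D.Bm v w u * D.Bm v w t := by
  simp only [Bm, Zm_add]
  rw [div_mul_div_comm]
  congr 1
  exact mul_mul_mul_comm _ _ _ _

theorem Bm_zero (v w : Fin (N + 2) → F) : D.Bm v w 0 = 1 := by simp [Bm, Zm_zero_right]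

theorem Bm_neg (v w : Fin (N + 2) → F) (u : F) : D.Bm v w (-u) = (D.Bm v w u)⁻¹ :=
  eq_inv_of_mul_eq_one_left (by rw [← Bm_add, neg_add_cancel, Bm_zero])

theorem Bm_symm (v w : Fin (N + 2) → F) (u : F) : D.Bm v w u = D.Bm w v u := by
  rw [Bm, Bm, add_comm, mul_comm (D.Zm v u)]

theorem Bm_zero_left (w : Fin (N + 2) → F) (u : F) : D.Bm 0 w u = 1 := by simp [Bm, Zm_zero]

theorem Bm_zero_mid (v : Fin (N + 2) → F) (u : F) : D.Bm v 0 u = 1 := by simp [Bm, Zm_zero]

theorem Bm_conj (A : GL (Fin (N + 2)) F) (v w : Fin (N + 2) → F) (u : F) :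
    D.cjM A (D.Bm v w u) = D.Bm (gv A v) (gv A w) u := by
  simp only [Bm, map_div, map_mul, cjM_Zm, gv_add]

theorem Bm_smul (a : F) (v w : Fin (N + 2) → F) (u : F) : D.Bm (a • v) (a • w) u = D.Bm v w (a * a * u) := by
  simp only [Bm, ← smul_add, Zm_smul]

end SymData

end CfsgLib.SpShort
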