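import Cfsg.Agent.Lib.SpShort.GLTools
import Mathlib.GroupTheory.SpecificGroups.Cyclic

/-!
# Homomorphisms out of the general linear group
-/

namespace CfsgLib.SpShort

open Matrix

variable {F : Type*} [Field F] {n : ℕ} [NeZero n]

omit [NeZero n] in
/-- An element of determinant one. -/
def slOf (A : GL (Fin n) F) (h : Matrix.GeneralLinearGroup.det A = 1) : Matrix.SpecialLinearGroup (Fin n) F :=
  ⟨A.1, congrArg Units.val h⟩

theorem det_dg_unit (i : Fin n) (a : Fˣ) : Matrix.GeneralLinearGroup.det (dg i a : GL (Fin n) F) = a :=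
  Units.ext (det_dg i a)

omit [NeZero n] in
theorem det_toGL (s : Matrix.SpecialLinearGroup (Fin n) F) :
    Matrix.GeneralLinearGroup.det (Matrix.SpecialLinearGroup.toGL s) = 1 := Units.ext s.2

/-- The part of determinant one. -/
def slPart (A : GL (Fin n) F) : Matrix.SpecialLinearGroup (Fin n) F :=
  slOf (A * (dg 0 (Matrix.GeneralLinearGroup.det A))⁻¹) (by rw [map_mul, map_inv, det_dg_unit, mul_inv_cancel])

/-- Conjugation by a diagonal element. -/
def cd (a : Fˣ) (s : Matrix.SpecialLinearGroup (Fin n) F) : Matrix.SpecialLinearGroup (Fin n) F :=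
  slOf (dg 0 a * Matrix.SpecialLinearGroup.toGL s * (dg 0 a)⁻¹) (by
    rw [map_mul, map_mul, map_inv, det_toGL, mul_one, mul_inv_cancel])

theorem toGL_slPart (A : GL (Fin n) F) :
    Matrix.SpecialLinearGroup.toGL (slPart A) = A * (dg 0 (Matrix.GeneralLinearGroup.det A))⁻¹ :=
  Units.ext rfl

theorem toGL_cd (a : Fˣ) (s : Matrix.SpecialLinearGroup (Fin n) F) :
    Matrix.SpecialLinearGroup.toGL (cd a s) = dg 0 a * Matrix.SpecialLinearGroup.toGL s * (dg 0 a)⁻¹ :=
  Units.ext rfl

theorem cd_mul (a : Fˣ) (s t : Matrix.SpecialLinearGroup (Fin n) F) : cd a (s * t) = cd a s * cd a t := by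
  refine Matrix.SpecialLinearGroup.toGL_injective ?_
  rw [map_mul, toGL_cd, toGL_cd, toGL_cd, map_mul]
  group

theorem cd_cd (a b : Fˣ) (s : Matrix.SpecialLinearGroup (Fin n) F) : cd a (cd b s) = cd (a * b) s := by
  refine Matrix.SpecialLinearGroup.toGL_injective ?_
  rw [toGL_cd, toGL_cd, toGL_cd, map_mul]
  group

theorem exists_gl_hom {G : Type*} [Group G] (ψ₀ : Matrix.SpecialLinearGroup (Fin n) F →* G) (ω : Fˣ)
    (gen : ∀ a : Fˣ, ∃ k : ℕ, a = ω ^ k) (d : G) (hd : d ^ orderOf ω = 1)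
    {u v : Matrix.SpecialLinearGroup (Fin n) F} (huv : Subgroup.closure {u, v} = ⊤)
    (hu : d * ψ₀ u * d⁻¹ = ψ₀ (cd ω u)) (hv : d * ψ₀ v * d⁻¹ = ψ₀ (cd ω v)) :
    ∃ ψ : GL (Fin n) F →* G, (∀ s, ψ (Matrix.SpecialLinearGroup.toGL s) = ψ₀ s) ∧ ψ (dg 0 ω) = d := by
  have hg : ∀ a : Fˣ, a ∈ Subgroup.zpowers ω := fun a => by
    obtain ⟨k, rfl⟩ := gen a
    exact pow_mem (Subgroup.mem_zpowers ω) k
  let η : Fˣ →* G := monoidHomOfForallMemZpowers hg (orderOf_dvd_of_pow_eq_one hd)
  have hη : η ω = d := monoidHomOfForallMemZpowers_apply_gen hg _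
  have h1 : ∀ s, d * ψ₀ s * d⁻¹ = ψ₀ (cd ω s) := by
    intro s
    have hs : s ∈ Subgroup.closure ({u, v} : Set _) := by rw [huv]; exact Subgroup.mem_top s
    induction hs using Subgroup.closure_induction with
    | mem x hx => rcases hx with rfl | rfl <;> assumption
    | one =>
      rw [show cd ω (1 : Matrix.SpecialLinearGroup (Fin n) F) = 1 from
        Matrix.SpecialLinearGroup.toGL_injective (by rw [toGL_cd, map_one, mul_one, mul_inv_cancel]), map_one]
      simp
    | mul x y _ _ hx hy =>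
      rw [cd_mul, map_mul ψ₀ (cd ω x), ← hx, ← hy, map_mul]
      group
    | inv x _ hx =>
      have e : cd ω x⁻¹ = (cd ω x)⁻¹ := by
        refine eq_inv_of_mul_eq_one_left ?_
        rw [← cd_mul, inv_mul_cancel]
        refine Matrix.SpecialLinearGroup.toGL_injective ?_
        rw [toGL_cd, map_one, mul_one, mul_inv_cancel]
      rw [e, map_inv ψ₀ (cd ω x), ← hx, map_inv]
      group
  have h2 : ∀ a s, η a * ψ₀ s * (η a)⁻¹ = ψ₀ (cd a s) := by
    intro a
    obtain ⟨k, rfl⟩ := gen a
    induction k with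
    | zero =>
      intro s
      have e : cd 1 s = s := Matrix.SpecialLinearGroup.toGL_injective (by rw [toGL_cd]; simp)
      simp [e]
    | succ k ih =>
      intro s
      rw [pow_succ, ← cd_cd, ← ih, ← h1, map_mul, hη]
      group
  refine ⟨{ toFun := fun A => ψ₀ (slPart A) * η (Matrix.GeneralLinearGroup.det A), map_one' := ?_, map_mul' := ?_ },
    fun s => ?_, ?_⟩
  · have e : slPart (1 : GL (Fin n) F) = 1 :=
      Matrix.SpecialLinearGroup.toGL_injective (by rw [toGL_slPart]; simp)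
    simp [e]
  · intro A B
    have e : slPart (A * B) = slPart A * cd (Matrix.GeneralLinearGroup.det A) (slPart B) := by
      refine Matrix.SpecialLinearGroup.toGL_injective ?_
      rw [map_mul, toGL_cd, toGL_slPart, toGL_slPart, toGL_slPart, map_mul Matrix.GeneralLinearGroup.det,
        map_mul (dg 0)]
      group
    rw [e, map_mul ψ₀, ← h2, map_mul Matrix.GeneralLinearGroup.det, map_mul η]
    group
  · show ψ₀ (slPart _) * η _ = ψ₀ s
    have e : slPart (Matrix.SpecialLinearGroup.toGL s) = s :=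
      Matrix.SpecialLinearGroup.toGL_injective (by rw [toGL_slPart, det_toGL, map_one, inv_one, mul_one])
    rw [e, det_toGL, map_one, mul_one]
  · show ψ₀ (slPart _) * η _ = d
    have e : slPart (dg 0 ω : GL (Fin n) F) = 1 :=
      Matrix.SpecialLinearGroup.toGL_injective (by rw [toGL_slPart, det_dg_unit, mul_inv_cancel, map_one])
    rw [e, det_dg_unit, map_one, one_mul, hη]

end CfsgLib.SpShort
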