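import Cfsg.Agent.Lib.SpShort.Model
import Cfsg.Agent.Lib.SpShort.GLHom
import Cfsg.Agent.Lib.SLShort.Counts

/-!
# The short relator list of the symplectic group
-/

namespace CfsgLib.SpShort

open Matrix hiding mul_apply one_apply
open CfsgLib.SympTransvection (tv)
open CfsgLib.TwoGenCl.Symp (levi el fr)
open CfsgLib.SL2Pres (IsModuleRels ev map_ev ev_eq_hom U T H)
open CfsgLib.ShortPres (Presents exists_word)

/-- The input. -/
structure Inp (K : Type) [Field K] [Fintype K] (N : ℕ) where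
  m : ℕ
  x : Fin m → Matrix.SpecialLinearGroup (Fin (N + 2)) K
  rels : Finset (FreeGroup (Fin m))
  hP : Presents rels x
  ω : Kˣ
  gen : ∀ a : Kˣ, ∃ k : ℕ, a = ω ^ k
  gen2 : ∀ a : K, ∃ P : Polynomial ℤ, Polynomial.aeval ((ω : K) * ω) P = a
  R : List (FreeGroup (Fin 3))
  hR : IsModuleRels ((ω : K) * ω) R
  hRlen : R.length ≤ 5
  u : Matrix.SpecialLinearGroup (Fin (N + 2)) K
  v : Matrix.SpecialLinearGroup (Fin (N + 2)) K
  huv : Subgroup.closure {u, v} = ⊤
  a : Matrix.SpecialLinearGroup (Fin (N + 1)) K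
  b : Matrix.SpecialLinearGroup (Fin (N + 1)) K
  hab : Subgroup.closure {a, b} = ⊤

variable {K : Type} [Field K] [Fintype K] {N : ℕ}

namespace Inp

variable (I : Inp K N)

/-- The torus letter. -/
abbrev wD : FreeGroup (Fin I.m ⊕ Fin 3) := FreeGroup.of (Sum.inr 0)
/-- The root letter. -/
abbrev wZ : FreeGroup (Fin I.m ⊕ Fin 3) := FreeGroup.of (Sum.inr 1)
/-- The Weyl letter. -/
abbrev wN : FreeGroup (Fin I.m ⊕ Fin 3) := FreeGroup.of (Sum.inr 2)

/-- A word of the special linear group. -/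
noncomputable def wS (s : Matrix.SpecialLinearGroup (Fin (N + 2)) K) : FreeGroup (Fin I.m ⊕ Fin 3) :=
  FreeGroup.map Sum.inl (exists_word I.hP.gen s).choose

/-- A word of the general linear group. -/
noncomputable def wA (A : GL (Fin (N + 2)) K) : FreeGroup (Fin I.m ⊕ Fin 3) :=
  I.wS (slPart A) * I.wD ^ (I.gen (Matrix.GeneralLinearGroup.det A)).choose

/-- A word of the root group. -/
noncomputable def wz (c : K) : FreeGroup (Fin I.m ⊕ Fin 3) := ev I.wD I.wZ 1 (I.gen2 c).choose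

/-- A word of a conjugate root group. -/
noncomputable def wV (v : Fin (N + 2) → K) (c : K) : FreeGroup (Fin I.m ⊕ Fin 3) :=
  haveI := Classical.dec (v ≠ 0)
  if h : v ≠ 0 then I.wA (exists_col h).choose * I.wz c * (I.wA (exists_col h).choose)⁻¹ else 1

/-- A word of the pairing. -/
noncomputable def wB (v w : Fin (N + 2) → K) (c : K) : FreeGroup (Fin I.m ⊕ Fin 3) :=
  I.wV (v + w) c * (I.wV v c * I.wV w c)⁻¹

/-- Equality of two words. -/
def eqw {α : Type*} (l r : FreeGroup α) : FreeGroup α := l * r⁻¹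

theorem eqw_iff {α : Type*} {G : Type*} [Group G] (f : FreeGroup α →* G) (l r : FreeGroup α) :
    f (eqw l r) = 1 ↔ f l = f r := by
  rw [eqw, map_mul, map_inv, mul_inv_eq_one]

/-- Commutation of two words. -/
def cmw {α : Type*} (l r : FreeGroup α) : FreeGroup α := eqw (l * r) (r * l)

theorem cmw_iff {α : Type*} {G : Type*} [Group G] (f : FreeGroup α →* G) (l r : FreeGroup α) :
    f (cmw l r) = 1 ↔ Commute (f l) (f r) := by
  rw [cmw, eqw_iff, map_mul, map_mul]
  rfl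

/-- Relations of the Levi factor. -/
noncomputable def L1 : List (FreeGroup (Fin I.m ⊕ Fin 3)) :=
  I.rels.toList.map (FreeGroup.map Sum.inl) ++
    [eqw (I.wD * I.wS I.u * I.wD⁻¹) (I.wS (cd I.ω I.u)), eqw (I.wD * I.wS I.v * I.wD⁻¹) (I.wS (cd I.ω I.v)),
      I.wD ^ orderOf I.ω]

/-- Relations of the root group. -/
noncomputable def L2 : List (FreeGroup (Fin I.m ⊕ Fin 3)) :=
  I.R.map (FreeGroup.lift ![I.wZ, I.wZ, I.wD])

/-- Relations of the stabilizer. -/
noncomputable def L3 : List (FreeGroup (Fin I.m ⊕ Fin 3)) :=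
  [cmw (I.wA (emb (Matrix.SpecialLinearGroup.toGL I.a))) I.wZ,
    cmw (I.wA (emb (Matrix.SpecialLinearGroup.toGL I.b))) I.wZ,
    cmw (I.wA (emb (dg 0 I.ω))) I.wZ, cmw (I.wA (tr z01 1)) I.wZ,
    cmw I.wZ (I.wA (pm (Equiv.swap 0 1)) * I.wZ * (I.wA (pm (Equiv.swap 0 1)))⁻¹)]

/-- Relations of the pairing. -/
noncomputable def L4 : List (FreeGroup (Fin I.m ⊕ Fin 3)) :=
  eqw (I.wB (bv 0) ((I.ω : K) • bv 1) 1) (I.wB (bv 0) (bv 1) (I.ω : K)) ::
    if h : 2 < N + 2 then
      [eqw (I.wB (bv 0) (bv 1 + bv ⟨2, h⟩) 1) (I.wB (bv 0) (bv 1) 1 * I.wB (bv 0) (bv ⟨2, h⟩) 1)]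
    else []

/-- Relations of the Weyl element. -/
noncomputable def L5 : List (FreeGroup (Fin I.m ⊕ Fin 3)) :=
  [cmw I.wN (I.wA (emb (Matrix.SpecialLinearGroup.toGL I.a))),
    cmw I.wN (I.wA (emb (Matrix.SpecialLinearGroup.toGL I.b))),
    cmw I.wN (I.wA (emb (dg 0 I.ω))),
    eqw (I.wN * I.wA (dg 0 I.ω) * I.wN⁻¹) (I.wA (dg 0 I.ω))⁻¹,
    cmw I.wN (I.wV (bv 1) 1),
    cmw I.wN (I.wA (pm (Equiv.swap 0 1)) * I.wN * (I.wA (pm (Equiv.swap 0 1)))⁻¹),
    eqw (I.wN * I.wA (tr z01.symm 1) * I.wN⁻¹) (I.wB (bv 0) (bv 1) (-1)),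
    eqw (I.wz 1 * (I.wN * I.wz 1 * I.wN⁻¹) * I.wz 1) I.wN,
    eqw (I.wz (I.ω : K) * (I.wN * I.wz (I.ω : K)⁻¹ * I.wN⁻¹) * I.wz (I.ω : K)) (I.wA (dg 0 I.ω) * I.wN)]

/-- All relations. -/
noncomputable def relL : List (FreeGroup (Fin I.m ⊕ Fin 3)) := I.L1 ++ I.L2 ++ I.L3 ++ I.L4 ++ I.L5

theorem length_relL : I.relL.length ≤ I.rels.card + (if N = 0 then 23 else 24) := by
  have h4 : I.L4.length ≤ if N = 0 then 1 else 2 := by
    simp only [L4, List.length_cons]
    split_ifs with h1 h2 <;> simp <;> omega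
  have h2 := I.hRlen
  simp only [relL, L1, L2, L3, L5, List.length_append, List.length_map, Finset.length_toList, List.length_cons,
    List.length_nil]
  split_ifs at h4 ⊢ <;> omega

/-- Compatibility of an evaluation with the pieces. -/
structure Cmp {G : Type} [Group G] (f : Fin I.m ⊕ Fin 3 → G) (ψ : GL (Fin (N + 2)) K →* G)
    (z : Multiplicative K →* G) : Prop where
  hx : ∀ k, f (Sum.inl k) = ψ (Matrix.SpecialLinearGroup.toGL (I.x k))
  hd : f (Sum.inr 0) = ψ (dg 0 I.ω)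
  hz : f (Sum.inr 1) = z (Multiplicative.ofAdd 1)
  scale : ∀ c, ψ (dg 0 I.ω) * z (Multiplicative.ofAdd c) * (ψ (dg 0 I.ω))⁻¹ =
    z (Multiplicative.ofAdd ((I.ω : K) * I.ω * c))

section Eval

variable {G : Type} [Group G] {f : Fin I.m ⊕ Fin 3 → G} {ψ : GL (Fin (N + 2)) K →* G}
  {z : Multiplicative K →* G}

theorem eval_wS_of {ψ₀ : Matrix.SpecialLinearGroup (Fin (N + 2)) K →* G}
    (h : ∀ k, f (Sum.inl k) = ψ₀ (I.x k)) (s : Matrix.SpecialLinearGroup (Fin (N + 2)) K) :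
    FreeGroup.lift f (I.wS s) = ψ₀ s := by
  have e : (FreeGroup.lift f).comp (FreeGroup.map Sum.inl) = ψ₀.comp (FreeGroup.lift I.x) := by
    ext k; simp [h]
  rw [wS, ← MonoidHom.comp_apply, e, MonoidHom.comp_apply, (exists_word I.hP.gen s).choose_spec]

variable (C : I.Cmp f ψ z)
include C

theorem eval_wA (A : GL (Fin (N + 2)) K) : FreeGroup.lift f (I.wA A) = ψ A := by
  rw [wA, map_mul, I.eval_wS_of (ψ₀ := ψ.comp Matrix.SpecialLinearGroup.toGL) C.hx, map_pow,
    FreeGroup.lift_apply_of, C.hd, MonoidHom.comp_apply, ← map_pow ψ, ← map_pow, ← map_mul, toGL_slPart,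
    ← (I.gen (Matrix.GeneralLinearGroup.det A)).choose_spec, inv_mul_cancel_right]

theorem eval_wz (c : K) : FreeGroup.lift f (I.wz c) = z (Multiplicative.ofAdd c) := by
  rw [wz, map_ev, FreeGroup.lift_apply_of, FreeGroup.lift_apply_of, C.hd, C.hz,
    ev_eq_hom z ((I.ω : K) * I.ω) _ C.scale, pow_one, (I.gen2 c).choose_spec]

variable (D : SymData K N G) (eψ : D.ψ = ψ) (ez : D.z = z)
include eψ ez

theorem eval_wV (v : Fin (N + 2) → K) (c : K) : FreeGroup.lift f (I.wV v c) = D.Zv v c := by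
  by_cases hv : v ≠ 0
  · rw [wV, dif_pos hv, map_mul, map_mul, map_inv, I.eval_wA C, I.eval_wz C,
      D.Zv_eq (exists_col hv).choose_spec, SymData.cjz, SymData.zz, eψ, ez]
  · rw [wV, dif_neg hv, map_one]
    push Not at hv
    subst hv
    rw [D.Zv_zero]

theorem eval_wB (v w : Fin (N + 2) → K) (c : K) : FreeGroup.lift f (I.wB v w c) = (D.Bm v w c : G) := by
  rw [wB, map_mul, map_inv, map_mul, I.eval_wV C D eψ ez, I.eval_wV C D eψ ez, I.eval_wV C D eψ ez,
    ← div_eq_mul_inv]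
  rfl

end Eval

/-- The images of the generators. -/
noncomputable def f₀ : Fin I.m ⊕ Fin 3 → Matrix.symplecticGroup (Fin (N + 2)) K :=
  Sum.elim (fun k => levi (Matrix.SpecialLinearGroup.toGL (I.x k)))
    ![levi (dg 0 I.ω), tv (el 0) 1, CfsgLib.TwoGenCl.Symp.flip 0]

theorem sound : ∀ r ∈ I.relL, FreeGroup.lift I.f₀ r = 1 := by
  set M := model I.ω I.gen (N := N)
  have C : I.Cmp I.f₀ M.D.ψ M.D.z := ⟨fun k => rfl, rfl, rfl, M.D.scaleω⟩
  have eN : FreeGroup.lift I.f₀ I.wN = M.n := by rw [FreeGroup.lift_apply_of]; rfl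
  have eZ : FreeGroup.lift I.f₀ I.wZ = M.D.z (Multiplicative.ofAdd 1) := by rw [FreeGroup.lift_apply_of]; rfl
  have eD : FreeGroup.lift I.f₀ I.wD = M.D.ψ (dg 0 I.ω) := by rw [FreeGroup.lift_apply_of]; rfl
  have hA := I.eval_wA C
  have hz := I.eval_wz C
  have hV := I.eval_wV C M.D rfl rfl
  have hB := I.eval_wB C M.D rfl rfl
  have hS := I.eval_wS_of (f := I.f₀) (ψ₀ := M.D.ψ.comp Matrix.SpecialLinearGroup.toGL) C.hx
  intro r hr
  simp only [relL, List.mem_append] at hr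
  rcases hr with (((hr | hr) | hr) | hr) | hr
  · simp only [L1, List.mem_append, List.mem_map, Finset.mem_toList, List.mem_cons, List.not_mem_nil,
      or_false] at hr
    have hu : ∀ s, FreeGroup.lift I.f₀ (eqw (I.wD * I.wS s * I.wD⁻¹) (I.wS (cd I.ω s))) = 1 := by
      intro s
      rw [eqw_iff, map_mul, map_mul, map_inv, eD, hS, hS, MonoidHom.comp_apply, MonoidHom.comp_apply,
        toGL_cd, map_mul, map_mul, map_inv]
    rcases hr with ⟨s, hs, rfl⟩ | rfl | rfl | rfl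
    · have e : (FreeGroup.lift I.f₀).comp (FreeGroup.map Sum.inl) =
          (M.D.ψ.comp Matrix.SpecialLinearGroup.toGL).comp (FreeGroup.lift I.x) := by
        ext k; simp; rfl
      rw [← MonoidHom.comp_apply, e, MonoidHom.comp_apply, I.hP.holds s hs, map_one]
    · exact hu _
    · exact hu _
    · rw [map_pow, eD, ← map_pow, ← map_pow, pow_orderOf_eq_one, map_one, map_one]
  · simp only [L2, List.mem_map] at hr
    obtain ⟨w, hw, rfl⟩ := hr
    rw [← MonoidHom.comp_apply]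
    refine I.hR.2 _ _ M.D.z ?_ ?_ w hw
    · simp [U, ← eZ]
    · intro c
      simp only [MonoidHom.comp_apply, H, FreeGroup.lift_apply_of]
      rw [show ![I.wZ, I.wZ, I.wD] 2 = I.wD from rfl, eD]
      exact M.D.scaleω c
  · simp only [L3, List.mem_cons, List.not_mem_nil, or_false] at hr
    rcases hr with rfl | rfl | rfl | rfl | rfl <;> rw [cmw_iff]
    · rw [hA, eZ]; exact M.D.fixE _
    · rw [hA, eZ]; exact M.D.fixE _
    · rw [hA, eZ]; exact M.D.fixE _
    · rw [hA, eZ]; exact M.D.fixT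
    · rw [map_mul, map_mul, map_inv, hA, eZ]; exact M.D.comm
  · simp only [L4, List.mem_cons] at hr
    rcases hr with rfl | hr
    · rw [eqw_iff, hB, hB]; exact congrArg Subtype.val M.H.two
    · split_ifs at hr with h
      · simp only [List.mem_singleton] at hr
        subst hr
        rw [eqw_iff, hB, map_mul, hB, hB, M.H.three ⟨2, h⟩ rfl]
        rfl
      · simp at hr
  · simp only [L5, List.mem_cons, List.not_mem_nil, or_false] at hr
    rcases hr with rfl | rfl | rfl | rfl | rfl | rfl | rfl | rfl | rfl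
    · rw [cmw_iff, hA, eN]; exact M.hcE _
    · rw [cmw_iff, hA, eN]; exact M.hcE _
    · rw [cmw_iff, hA, eN]; exact M.hcE _
    · rw [eqw_iff, map_mul, map_mul, map_inv, map_inv, hA, eN]; exact M.hTω
    · rw [cmw_iff, hV, eN]; exact M.hz1
    · rw [cmw_iff, map_mul, map_mul, map_inv, hA, eN]; exact M.hn01
    · rw [eqw_iff, map_mul, map_mul, map_inv, hA, eN, hB]; exact M.hT10
    · rw [eqw_iff, map_mul, map_mul, map_mul, map_mul, map_inv, hz, eN]; exact M.hB
    · rw [eqw_iff, map_mul, map_mul, map_mul, map_mul, map_mul, map_inv, hz, hz, hA, eN]; exact M.hD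

theorem emb_commute {G : Type} [Group G] (ψ : GL (Fin (N + 2)) K →* G) (g : G)
    (ha : Commute (ψ (emb (Matrix.SpecialLinearGroup.toGL I.a))) g)
    (hb : Commute (ψ (emb (Matrix.SpecialLinearGroup.toGL I.b))) g)
    (hd : Commute (ψ (emb (dg 0 I.ω))) g) (B : GL (Fin (N + 1)) K) : Commute (ψ (emb B)) g := by
  let S : Subgroup (GL (Fin (N + 1)) K) := ((Subgroup.centralizer {g}).comap ψ).comap emb
  have hS : ∀ B, B ∈ S ↔ Commute (ψ (emb B)) g := fun B => by
    simp [S, Subgroup.mem_centralizer_iff, commute_iff_eq, eq_comm]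
  suffices S = ⊤ from (hS B).1 (by rw [this]; exact Subgroup.mem_top B)
  refine gl_top S (fun s => ?_) (fun c => ?_)
  · have : s ∈ S.comap Matrix.SpecialLinearGroup.toGL := by
      have hle : Subgroup.closure {I.a, I.b} ≤ S.comap Matrix.SpecialLinearGroup.toGL := by
        rw [Subgroup.closure_le]
        rintro _ (rfl | rfl)
        · exact (hS _).2 ha
        · exact (hS _).2 hb
      exact hle (by rw [I.hab]; exact Subgroup.mem_top s)
    exact this
  · obtain ⟨k, rfl⟩ := I.gen c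
    rw [map_pow]
    exact pow_mem ((hS _).2 hd) k

theorem exists_isom :
    ∃ e : PresentedGroup {r | r ∈ I.relL} ≃* Matrix.symplecticGroup (Fin (N + 2)) K,
      ∀ i, e (PresentedGroup.of i) = I.f₀ i := by
  classical
  haveI : Finite (Matrix.SpecialLinearGroup (Fin (N + 2)) K) := Subtype.finite
  set G := PresentedGroup {r | r ∈ I.relL}
  set f : Fin I.m ⊕ Fin 3 → G := fun i => PresentedGroup.of i
  have hl : FreeGroup.lift f = PresentedGroup.mk _ := by ext i; simp [f, PresentedGroup.of]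
  have hrel : ∀ r ∈ I.relL, FreeGroup.lift f r = 1 := fun r hr => by
    rw [hl]; exact PresentedGroup.one_of_mem hr
  have m1 : ∀ r ∈ I.L1, FreeGroup.lift f r = 1 := fun r hr => hrel r (by simp [relL, hr])
  have m2 : ∀ r ∈ I.L2, FreeGroup.lift f r = 1 := fun r hr => hrel r (by simp [relL, hr])
  have m3 : ∀ r ∈ I.L3, FreeGroup.lift f r = 1 := fun r hr => hrel r (by simp [relL, hr])
  have m4 : ∀ r ∈ I.L4, FreeGroup.lift f r = 1 := fun r hr => hrel r (by simp [relL, hr])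
  have m5 : ∀ r ∈ I.L5, FreeGroup.lift f r = 1 := fun r hr => hrel r (by simp [relL, hr])
  obtain ⟨ψ₀, hψ₀⟩ := I.hP.exists_hom (fun k => f (Sum.inl k)) fun r hr => by
    have e : FreeGroup.lift (fun k => f (Sum.inl k)) = (FreeGroup.lift f).comp (FreeGroup.map Sum.inl) := by
      ext k; simp
    rw [e]
    exact m1 _ (by simp only [L1, List.mem_append, List.mem_map, Finset.mem_toList]; exact Or.inl ⟨r, hr, rfl⟩)
  have hS := I.eval_wS_of (f := f) (ψ₀ := ψ₀) fun k => (hψ₀ k).symm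
  simp only [L1, List.forall_mem_append, List.forall_mem_cons] at m1
  obtain ⟨-, mu, mv, mo, -⟩ := m1
  rw [eqw_iff, map_mul, map_mul, map_inv, hS, hS, FreeGroup.lift_apply_of] at mu mv
  rw [map_pow, FreeGroup.lift_apply_of] at mo
  obtain ⟨ψ, hψ, hψd⟩ := exists_gl_hom ψ₀ I.ω I.gen (f (Sum.inr 0)) mo I.huv mu mv
  obtain ⟨φ, hφ1, hφ2⟩ := I.hR.1 G ((FreeGroup.lift f).comp (FreeGroup.lift ![I.wZ, I.wZ, I.wD]))
    fun w hw => m2 _ (List.mem_map_of_mem hw)
  simp only [MonoidHom.comp_apply, U, H, FreeGroup.lift_apply_of] at hφ1 hφ2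
  have hZ' : f (Sum.inr 1) = φ (Multiplicative.ofAdd 1) := by
    rw [hφ1]; simp [FreeGroup.lift_apply_of]
  have hD' : FreeGroup.lift f (![I.wZ, I.wZ, I.wD] 2) = f (Sum.inr 0) := by
    rw [show ![I.wZ, I.wZ, I.wD] 2 = I.wD from rfl, FreeGroup.lift_apply_of]
  have C : I.Cmp f ψ φ := ⟨fun k => by rw [hψ, hψ₀], hψd.symm, hZ', fun c => by
    rw [hψd, ← hD']; exact hφ2 c⟩
  have hA := I.eval_wA C
  have hz := I.eval_wz C
  have eZ : FreeGroup.lift f I.wZ = φ (Multiplicative.ofAdd 1) := by rw [FreeGroup.lift_apply_of, hZ']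
  have eN : FreeGroup.lift f I.wN = f (Sum.inr 2) := FreeGroup.lift_apply_of
  simp only [L3, List.forall_mem_cons, cmw_iff, map_mul, map_inv, hA, eZ] at m3
  obtain ⟨fa, fb, fd, ft, fc, -⟩ := m3
  let D : SymData K N G :=
    { ψ := ψ, z := φ, ω := I.ω, gen := I.gen, scaleω := C.scale
      fixE := fun B => I.emb_commute ψ _ fa fb fd B, fixT := ft, comm := fc }
  have hV := I.eval_wV C D rfl rfl
  have hB := I.eval_wB C D rfl rfl
  simp only [L4, List.forall_mem_cons, eqw_iff, hB] at m4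
  obtain ⟨q2, q3⟩ := m4
  have HQ : D.Quad :=
    { two := Subtype.ext q2
      three := fun j hj => by
        have h : 2 < N + 2 := by have := j.isLt; omega
        obtain rfl : j = ⟨2, h⟩ := Fin.ext hj
        rw [dif_pos h] at q3
        simp only [List.forall_mem_singleton, eqw_iff, map_mul, hB] at q3
        exact Subtype.ext q3 }
  simp only [L5, List.forall_mem_cons, cmw_iff, eqw_iff, map_mul, map_inv, hA, hz, hV, hB, eN] at m5
  obtain ⟨ca, cb, cc, cT, cz, cn, cT10, cB, cD, -⟩ := m5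
  let C' : CellData K N G :=
    { D := D, H := HQ, n := f (Sum.inr 2)
      hcE := fun B => (I.emb_commute ψ _ ca.symm cb.symm cc.symm B).symm
      hTω := cT, hz1 := cz, hn01 := cn, hT10 := cT10, hB := cB, hD := cD }
  let Φ : G →* Matrix.symplecticGroup (Fin (N + 2)) K := PresentedGroup.toGroup (f := I.f₀) fun r hr => I.sound r hr
  have hΦ : ∀ i, Φ (f i) = I.f₀ i := fun i => PresentedGroup.toGroup.of _
  have hΦψ : ∀ A, Φ (ψ A) = levi A := by
    have e : Φ.comp (FreeGroup.lift f) = FreeGroup.lift I.f₀ := by ext i; simp [hΦ]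
    intro A
    have C0 : I.Cmp I.f₀ (levi : GL (Fin (N + 2)) K →* _) (zM K N) :=
      ⟨fun k => rfl, rfl, rfl, (symData I.ω I.gen).scaleω⟩
    rw [← hA A, ← MonoidHom.comp_apply, e, I.eval_wA C0]
  have hΦz : ∀ c, Φ (D.zz c) = tv (el 0) c := by
    have e : Φ.comp (FreeGroup.lift f) = FreeGroup.lift I.f₀ := by ext i; simp [hΦ]
    intro c
    have C0 : I.Cmp I.f₀ (levi : GL (Fin (N + 2)) K →* _) (zM K N) :=
      ⟨fun k => rfl, rfl, rfl, (symData I.ω I.gen).scaleω⟩
    show Φ (φ _) = _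
    rw [← hz c, ← MonoidHom.comp_apply, e, I.eval_wz C0]
    rfl
  have hgen : Subgroup.closure (Set.range C'.D.ψ ∪ Set.range C'.D.zz ∪ {C'.n}) = ⊤ := by
    rw [eq_top_iff, ← PresentedGroup.closure_range_of]
    refine Subgroup.closure_mono ?_
    rintro _ ⟨i, rfl⟩
    rcases i with k | j
    · exact Or.inl (Or.inl ⟨_, (C.hx k).symm⟩)
    · fin_cases j
      · exact Or.inl (Or.inl ⟨_, C.hd.symm⟩)
      · exact Or.inl (Or.inr ⟨1, hZ'.symm⟩)
      · exact Or.inr rfl
  exact ⟨MulEquiv.ofBijective Φ (bijective_of C' Φ hΦψ hΦz (hΦ _) hgen), hΦ⟩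

end Inp

end CfsgLib.SpShort
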