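import Cfsg.Agent.Lib.SpShort.SymExp
import Cfsg.Agent.Lib.SL2Pres.Bound

/-!
# Cells of a group satisfying the symplectic relations
-/

namespace CfsgLib.SpShort

open Matrix

variable {F : Type*} [Field F] {N : ℕ}

theorem eq_emb {k : ℕ} (A : GL (Fin (k + 1)) F) (h : gv A (Pi.single 0 1) = Pi.single 0 1)
    (hr : ∀ j : Fin k, A.1 0 j.succ = 0) : ∃ B : GL (Fin k) F, A = emb B := by
  obtain ⟨B, r, e⟩ := eq_mul_of_fix_col A h
  refine ⟨B, ?_⟩
  have hr0 : r = 0 := by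
    funext j
    have e1 := hr j
    have e2 : (Pi.single j.succ 1 : Fin (k + 1) → F) = Fin.cons 0 (Pi.single j 1) := by
      funext p
      refine Fin.cases ?_ (fun i => ?_) p
      · simp [(Fin.succ_ne_zero j).symm]
      · simp [Pi.single_apply]
    rw [← gv_apply_col, e, gv_mul, e2, gv_rowU, gv_emb, Fin.cons_zero, zero_add, dotProduct_single_one] at e1
    exact e1
  rw [e, hr0, rowU_zero, mul_one]

theorem pm_fix {k : ℕ} (π : Equiv.Perm (Fin (k + 1))) (h : π 0 = 0) :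
    ∃ B : GL (Fin k) F, (pm π : GL (Fin (k + 1)) F) = emb B := by
  refine eq_emb _ (by rw [gv_pm_single, h]) fun j => ?_
  rw [← gv_apply_col, gv_pm_single, Pi.single_eq_of_ne]
  intro e
  exact Fin.succ_ne_zero j (π.injective (e.symm.trans h.symm))

variable {G : Type*} [Group G] [Finite F]

/-- The relations of the Weyl element. -/
structure CellData (F : Type*) [Field F] [Finite F] (N : ℕ) (G : Type*) [Group G] where
  D : SymData F N G
  H : D.Quad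
  n : G
  hcE : ∀ B : GL (Fin (N + 1)) F, Commute n (D.ψ (emb B))
  hTω : n * D.ψ (dg 0 D.ω) * n⁻¹ = (D.ψ (dg 0 D.ω))⁻¹
  hz1 : Commute n (D.Zv (bv 1) 1)
  hn01 : Commute n (D.ψ (pm (Equiv.swap 0 1)) * n * (D.ψ (pm (Equiv.swap 0 1)))⁻¹)
  hT10 : n * D.ψ (tr z01.symm 1) * n⁻¹ = (D.Bm (bv 0) (bv 1) (-1) : G)
  hB : D.zz 1 * (n * D.zz 1 * n⁻¹) * D.zz 1 = n
  hD : D.zz (D.ω : F) * (n * D.zz (D.ω : F)⁻¹ * n⁻¹) * D.zz (D.ω : F) = D.ψ (dg 0 D.ω) * n

namespace CellData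

variable (C : CellData F N G)

theorem powers (a : Fˣ) :
    C.D.zz (a : F) * (C.n * C.D.zz (a : F)⁻¹ * C.n⁻¹) * C.D.zz (a : F) = C.D.ψ (dg 0 a) * C.n := by
  haveI := Fintype.ofFinite F
  obtain ⟨k, rfl⟩ := C.D.gen a
  have h := CfsgLib.SL2Pres.powers_relations (C.D.ω : F) C.D.ω.ne_zero C.n (C.D.ψ (dg 0 C.D.ω)) C.D.z
    C.D.scaleω C.hTω C.hB C.hD k
  rw [Units.val_pow_eq_pow_val, map_pow, map_pow]
  exact h

theorem nsq : C.n * C.n = C.D.ψ (dg 0 (-1)) := by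
  haveI := Fintype.ofFinite F
  obtain ⟨k, hk⟩ := C.D.gen (-1)
  have h := (CfsgLib.SL2Pres.half_power (C.D.ω : F) C.D.ω.ne_zero C.n (C.D.ψ (dg 0 C.D.ω)) C.D.z
    C.D.scaleω C.hTω C.hB C.hD k (by rw [← Units.val_pow_eq_pow_val, ← hk]; simp)).1
  rw [h, hk, map_pow, map_pow]

theorem n_dg (a : Fˣ) : C.n * C.D.ψ (dg 0 a) * C.n⁻¹ = C.D.ψ (dg 0 a⁻¹) := by
  obtain ⟨k, rfl⟩ := C.D.gen a
  rw [map_pow, map_pow, ← conj_pow, C.hTω, inv_pow, map_inv, map_inv, map_pow, map_pow]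

/-- The conjugates of the Weyl element. -/
def nn (i : Fin (N + 2)) : G := C.D.ψ (pm (Equiv.swap 0 i)) * C.n * (C.D.ψ (pm (Equiv.swap 0 i)))⁻¹

theorem nn_zero : C.nn 0 = C.n := by
  obtain ⟨B, hB⟩ := pm_fix (F := F) (Equiv.swap (0 : Fin (N + 2)) 0) (by simp)
  rw [nn, hB, (C.hcE B).symm.eq, mul_inv_cancel_right]

theorem conj_n {π : Equiv.Perm (Fin (N + 2))} {i : Fin (N + 2)} (h : π 0 = i) :
    C.D.ψ (pm π) * C.n * (C.D.ψ (pm π))⁻¹ = C.nn i := by
  obtain ⟨B, hB⟩ := pm_fix (F := F) (Equiv.swap 0 i * π) (by simp [h])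
  have e : C.D.ψ (pm π) = C.D.ψ (pm (Equiv.swap 0 i)) * C.D.ψ (emb B) := by
    rw [← hB, ← map_mul C.D.ψ, ← map_mul (CfsgLib.TwoGenCl.permG F), ← mul_assoc,
      Equiv.swap_mul_self, one_mul]
  rw [e, nn, _root_.mul_inv_rev]
  calc C.D.ψ (pm (Equiv.swap 0 i)) * C.D.ψ (emb B) * C.n *
        ((C.D.ψ (emb B))⁻¹ * (C.D.ψ (pm (Equiv.swap 0 i)))⁻¹)
      = C.D.ψ (pm (Equiv.swap 0 i)) * (C.D.ψ (emb B) * C.n * (C.D.ψ (emb B))⁻¹) *
        (C.D.ψ (pm (Equiv.swap 0 i)))⁻¹ := by group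
    _ = _ := by rw [(C.hcE B).symm.eq, mul_inv_cancel_right]

theorem conj_nn (π : Equiv.Perm (Fin (N + 2))) (i : Fin (N + 2)) :
    C.D.ψ (pm π) * C.nn i * (C.D.ψ (pm π))⁻¹ = C.nn (π i) := by
  rw [← C.conj_n (π := π * Equiv.swap 0 i) (i := π i) (by simp), nn]
  simp only [pm, map_mul]
  group

theorem comm_nn (i j : Fin (N + 2)) : Commute (C.nn i) (C.nn j) := by
  rcases eq_or_ne i j with rfl | hij
  · exact Commute.refl _
  obtain ⟨π, h0, h1⟩ : ∃ π : Equiv.Perm (Fin (N + 2)), π 0 = i ∧ π 1 = j := by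
    refine ⟨Equiv.swap (Equiv.swap 0 i 1) j * Equiv.swap 0 i, ?_, by simp⟩
    rw [Equiv.Perm.mul_apply, Equiv.swap_apply_left]
    refine Equiv.swap_apply_of_ne_of_ne (fun h => ?_) hij
    exact z01 ((Equiv.swap (0 : Fin (N + 2)) i).injective ((Equiv.swap_apply_left _ _).trans h))
  have h : Commute (C.nn 0) (C.nn 1) := by rw [C.nn_zero]; exact C.hn01
  have := h.map (MulAut.conj (C.D.ψ (pm π))).toMonoidHom
  rw [MulEquiv.coe_toMonoidHom, MulAut.conj_apply, MulAut.conj_apply, C.conj_nn, C.conj_nn, h0, h1] at this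
  exact this

/-- The representatives of the cells. -/
noncomputable def w (S : Finset (Fin (N + 2))) : G :=
  S.noncommProd C.nn fun i _ j _ _ => C.comm_nn i j

theorem w_empty : C.w ∅ = 1 := Finset.noncommProd_empty _ _

theorem w_insert {i : Fin (N + 2)} {S : Finset (Fin (N + 2))} (h : i ∉ S) : C.w (insert i S) = C.nn i * C.w S :=
  Finset.noncommProd_insert_of_notMem _ _ _ _ h

theorem commute_w {g : G} {S : Finset (Fin (N + 2))} (h : ∀ i ∈ S, Commute g (C.nn i)) : Commute g (C.w S) :=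
  Finset.noncommProd_commute _ _ _ _ h

theorem w_conj (π : Equiv.Perm (Fin (N + 2))) (S : Finset (Fin (N + 2))) :
    C.D.ψ (pm π) * C.w S = C.w (S.image π) * C.D.ψ (pm π) := by
  induction S using Finset.induction_on with
  | empty => simp [w_empty]
  | insert i S hi ih =>
    rw [Finset.image_insert, C.w_insert hi, C.w_insert (by simp [hi]), ← C.conj_nn π i,
      mul_assoc _ (C.w (S.image π)), ← ih]
    group

theorem n_Zv {v : Fin (N + 2) → F} (hv : v 0 = 0) (u : F) : Commute C.n (C.D.Zv v u) := by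
  revert u
  refine squares_induct (fun u => Commute C.n (C.D.Zv v u)) ?_ ?_ ?_ ?_
  · rw [show C.D.Zv v 0 = 1 from congrArg Subtype.val (C.D.Zm_zero_right v)]
    exact Commute.one_right _
  · intro a b ha hb
    rw [C.D.Zv_add]
    exact ha.mul_right hb
  · intro b hb
    have e : C.D.Zv v (-b) = (C.D.Zv v b)⁻¹ :=
      eq_inv_of_mul_eq_one_left (by
        rw [← C.D.Zv_add, neg_add_cancel]; exact congrArg Subtype.val (C.D.Zm_zero_right v))
    rw [e]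
    exact hb.inv_right
  intro s hs
  by_cases h0 : v = 0
  · subst h0
    rw [C.D.Zv_zero]
    exact Commute.one_right _
  have ht : s • Fin.tail v ≠ 0 := by
    refine smul_ne_zero hs fun e => h0 ?_
    funext p
    refine Fin.cases hv (fun r => ?_) p
    exact congrFun e r
  obtain ⟨B, hB⟩ := exists_col ht
  have e1 : gv (emb B) (bv (1 : Fin (N + 2))) = s • v := by
    have e : (bv 1 : Fin (N + 2) → F) = Fin.cons 0 (Pi.single 0 1) := by
      funext p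
      refine Fin.cases ?_ (fun i => ?_) p
      · simp
      · rw [Fin.cons_succ, ← Fin.succ_zero_eq_one]; simp only [bv, Pi.single_apply, Fin.succ_inj]
    rw [e, gv_emb, hB]
    funext p
    refine Fin.cases ?_ (fun i => ?_) p
    · simp [hv]
    · simp [Fin.tail]
  have e2 : C.D.Zv v (s * s) = C.D.Zv (s • v) 1 := by rw [C.D.Zv_smul, mul_one]
  rw [e2, ← e1, ← C.D.Zv_conj]
  exact ((C.hcE B).mul_right C.hz1).mul_right (C.hcE B).inv_right

theorem n_Bm {v v' : Fin (N + 2) → F} (hv : v 0 = 0) (hv' : v' 0 = 0) (u : F) :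
    Commute C.n (C.D.Bm v v' u : G) := by
  have e : (C.D.Bm v v' u : G) = C.D.Zv (v + v') u * (C.D.Zv v u * C.D.Zv v' u)⁻¹ := by
    rw [← div_eq_mul_inv]; rfl
  rw [e]
  exact (C.n_Zv (by simp [hv, hv']) u).mul_right ((C.n_Zv hv u).mul_right (C.n_Zv hv' u)).inv_right

theorem nn_Zv {i : Fin (N + 2)} {v : Fin (N + 2) → F} (hv : v i = 0) (u : F) :
    Commute (C.nn i) (C.D.Zv v u) := by
  set π : Equiv.Perm (Fin (N + 2)) := Equiv.swap 0 i with hπ
  have h := (C.n_Zv (v := v ∘ π) (by simp [hπ, hv]) u).map (MulAut.conj (C.D.ψ (pm π))).toMonoidHom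
  rw [MulEquiv.coe_toMonoidHom, MulAut.conj_apply, MulAut.conj_apply, C.conj_n (i := i) (by simp [hπ]),
    C.D.Zv_conj, gv_pm] at h
  rwa [show (v ∘ π) ∘ π.symm = v by funext p; simp] at h

theorem n_dg_succ {i : Fin (N + 2)} (hi : i ≠ 0) (a : Fˣ) : Commute C.n (C.D.ψ (dg i a)) := by
  obtain ⟨B, hB⟩ := eq_emb (dg i a) (by
    funext p
    rw [gv_dg]
    by_cases hp : p = i
    · subst hp; simp [hi]
    · simp [hp]) (fun j => by
    rw [← gv_apply_col, gv_dg, Function.update_of_ne hi.symm]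
    exact Pi.single_eq_of_ne (Fin.succ_ne_zero j).symm _)
  rw [hB]
  exact C.hcE B

theorem n_tr {a b : Fin (N + 2)} (h : a ≠ b) (ha : a ≠ 0) (hb : b ≠ 0) (t : F) :
    Commute C.n (C.D.ψ (tr h t)) := by
  obtain ⟨B, hB⟩ := eq_emb (tr h t) (by rw [gv_tr, Pi.single_eq_of_ne hb]; simp) (fun j => by
    rw [← gv_apply_col, gv_tr, Pi.add_apply, Pi.single_eq_of_ne (Fin.succ_ne_zero j).symm,
      Pi.single_eq_of_ne ha.symm, add_zero])
  rw [hB]
  exact C.hcE B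

theorem nn_tr {i a b : Fin (N + 2)} (h : a ≠ b) (hia : i ≠ a) (hib : i ≠ b) (t : F) :
    Commute (C.nn i) (C.D.ψ (tr h t)) := by
  set π : Equiv.Perm (Fin (N + 2)) := Equiv.swap 0 i with hπ
  have hne : ∀ c, i ≠ c → π c ≠ 0 := fun c hc e => hc (by
    have := congrArg π e; simpa [hπ] using this.symm)
  have hh : π a ≠ π b := π.injective.ne h
  have h2 := (C.n_tr hh (hne a hia) (hne b hib) t).map (MulAut.conj (C.D.ψ (pm π))).toMonoidHom
  rw [MulEquiv.coe_toMonoidHom, MulAut.conj_apply, MulAut.conj_apply, C.conj_n (i := i) (by simp [hπ]),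
    ← map_inv, ← map_mul, ← map_mul, pm_tr] at h2
  simpa [hπ] using h2

theorem nn_dg {i j : Fin (N + 2)} (hij : i ≠ j) (a : Fˣ) : Commute (C.nn i) (C.D.ψ (dg j a)) := by
  set π : Equiv.Perm (Fin (N + 2)) := Equiv.swap 0 i with hπ
  have hj : π j ≠ 0 := fun e => hij (by have := congrArg π e; simpa [hπ] using this.symm)
  have h2 := (C.n_dg_succ hj a).map (MulAut.conj (C.D.ψ (pm π))).toMonoidHom
  rw [MulEquiv.coe_toMonoidHom, MulAut.conj_apply, MulAut.conj_apply, C.conj_n (i := i) (by simp [hπ]),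
    ← map_inv, ← map_mul, ← map_mul, pm_dg] at h2
  simpa [hπ] using h2

theorem base_T (t : F) : C.n * C.D.ψ (tr z01.symm t) * C.n⁻¹ = (C.D.Bm (bv 0) (bv 1) (-t) : G) := by
  by_cases ht : t = 0
  · subst ht
    rw [tr_zero, map_one, neg_zero, C.D.Bm_zero]
    simp
  set s : Fˣ := Units.mk0 t ht
  have hc := C.n_dg_succ (i := 1) z01.symm s
  have hz := z01 (N := N)
  have e1 : dg 1 s * tr z01.symm 1 * (dg 1 s)⁻¹ = (tr z01.symm t : GL (Fin (N + 2)) F) := by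
    refine conj_eq fun v => ?_
    simp only [gv_tr, gv_dg]
    funext p
    by_cases hp : p = 1
    · subst hp; simp [s, hz.symm, hz]; ring
    · simp [hp]
  have e2 : C.D.cjM (dg 1 s) (C.D.Bm (bv 0) (bv 1) (-1)) = C.D.Bm (bv 0) (bv 1) (-t) := by
    rw [C.D.Bm_conj]
    have g0 : gv (dg 1 s) (bv (0 : Fin (N + 2))) = bv 0 := by
      funext p; rw [gv_dg]
      by_cases hp : p = 1
      · subst hp; simp [hz.symm]
      · simp [hp]
    have g1 : gv (dg 1 s) (bv (1 : Fin (N + 2))) = t • bv 1 := by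
      funext p; rw [gv_dg]
      by_cases hp : p = 1
      · subst hp; simp [s]
      · simp [hp]
    rw [g0, g1, SymData.b_one C.H, mul_neg, mul_one]
  rw [← e2, SymData.cjM_coe, ← C.hT10, ← e1, map_mul, map_mul, map_inv]
  calc C.n * (C.D.ψ (dg 1 s) * C.D.ψ (tr z01.symm 1) * (C.D.ψ (dg 1 s))⁻¹) * C.n⁻¹
      = (C.n * C.D.ψ (dg 1 s)) * C.D.ψ (tr z01.symm 1) * (C.n * C.D.ψ (dg 1 s))⁻¹ := by group
    _ = _ := by rw [hc.eq]; group

theorem n_T {j : Fin (N + 2)} (hj : j ≠ 0) (t : F) :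
    C.n * C.D.ψ (tr hj t) * C.n⁻¹ = (C.D.Bm (bv 0) (bv j) (-t) : G) := by
  set π : Equiv.Perm (Fin (N + 2)) := Equiv.swap 1 j with hπ
  have hπ0 : π 0 = 0 := Equiv.swap_apply_of_ne_of_ne z01 hj.symm
  obtain ⟨B, hB⟩ := pm_fix (F := F) π hπ0
  have e1 : pm π * tr z01.symm t * (pm π)⁻¹ = (tr hj t : GL (Fin (N + 2)) F) := by
    rw [pm_tr]; simp only [hπ0]; simp [hπ]
  have e2 : C.D.cjM (pm π) (C.D.Bm (bv 0) (bv 1) (-t)) = C.D.Bm (bv 0) (bv j) (-t) := by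
    rw [C.D.Bm_conj, gv_pm_single, gv_pm_single, hπ0]; simp [hπ]
  rw [← e2, SymData.cjM_coe, ← C.base_T, ← e1, map_mul, map_mul, map_inv, hB]
  calc C.n * (C.D.ψ (emb B) * C.D.ψ (tr z01.symm t) * (C.D.ψ (emb B))⁻¹) * C.n⁻¹
      = (C.n * C.D.ψ (emb B)) * C.D.ψ (tr z01.symm t) * (C.n * C.D.ψ (emb B))⁻¹ := by group
    _ = _ := by rw [(C.hcE B).eq]; group

theorem n_Bm0 {j : Fin (N + 2)} (hj : j ≠ 0) (t : F) :
    C.n * (C.D.Bm (bv 0) (bv j) t : G) * C.n⁻¹ = C.D.ψ (tr hj t) := by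
  have e := C.n_T hj (-t)
  rw [neg_neg] at e
  have e1 : dg 0 (-1) * tr hj (-t) * (dg 0 (-1))⁻¹ = (tr hj t : GL (Fin (N + 2)) F) := by
    refine conj_eq fun v => ?_
    simp only [gv_tr, gv_dg]
    funext p
    by_cases hp : p = 0
    · subst hp; simp [hj.symm]
    · simp [hp]
  rw [← e, ← e1, map_mul, map_mul, map_inv, ← C.nsq]
  group

theorem nn_T {a b : Fin (N + 2)} (h : b ≠ a) (t : F) :
    C.nn a * C.D.ψ (tr h t) * (C.nn a)⁻¹ = (C.D.Bm (bv a) (bv b) (-t) : G) := by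
  set π : Equiv.Perm (Fin (N + 2)) := Equiv.swap 0 a with hπ
  have hj : π b ≠ 0 := fun e => h (by have := congrArg π e; simpa [hπ] using this)
  have e1 : pm π * tr hj t * (pm π)⁻¹ = (tr h t : GL (Fin (N + 2)) F) := by rw [pm_tr]; simp [hπ]
  have e2 : C.D.cjM (pm π) (C.D.Bm (bv 0) (bv (π b)) (-t)) = C.D.Bm (bv a) (bv b) (-t) := by
    rw [C.D.Bm_conj, gv_pm_single, gv_pm_single]; simp [hπ]
  rw [← e2, SymData.cjM_coe, ← C.n_T hj, ← e1, map_mul, map_mul, map_inv,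
    ← C.conj_n (π := π) (i := a) (by simp [hπ])]
  group

theorem nn_Bm {a b : Fin (N + 2)} (h : b ≠ a) (t : F) :
    C.nn a * (C.D.Bm (bv a) (bv b) t : G) * (C.nn a)⁻¹ = C.D.ψ (tr h t) := by
  set π : Equiv.Perm (Fin (N + 2)) := Equiv.swap 0 a with hπ
  have hj : π b ≠ 0 := fun e => h (by have := congrArg π e; simpa [hπ] using this)
  have e1 : pm π * tr hj t * (pm π)⁻¹ = (tr h t : GL (Fin (N + 2)) F) := by rw [pm_tr]; simp [hπ]
  have e2 : C.D.cjM (pm π) (C.D.Bm (bv 0) (bv (π b)) t) = C.D.Bm (bv a) (bv b) t := by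
    rw [C.D.Bm_conj, gv_pm_single, gv_pm_single]; simp [hπ]
  rw [← e2, SymData.cjM_coe, ← e1, map_mul, map_mul, map_inv, ← C.n_Bm0 hj,
    ← C.conj_n (π := π) (i := a) (by simp [hπ])]
  group

theorem conj_mem_M (A : GL (Fin (N + 2)) F) {m : G} (hm : m ∈ C.D.M) :
    C.D.ψ A * m * (C.D.ψ A)⁻¹ ∈ C.D.M := by
  have e := C.D.cjM_coe A ⟨m, hm⟩
  simp only at e
  rw [← e]
  exact SetLike.coe_mem _

/-- The stabilizer of the Lagrangian. -/
def P : Subgroup G where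
  carrier := {g | ∃ m ∈ C.D.M, ∃ A, g = m * C.D.ψ A}
  one_mem' := ⟨1, one_mem _, 1, by simp⟩
  mul_mem' := by
    rintro _ _ ⟨m, hm, A, rfl⟩ ⟨m', hm', A', rfl⟩
    exact ⟨m * (C.D.ψ A * m' * (C.D.ψ A)⁻¹), mul_mem hm (C.conj_mem_M A hm'), A * A', by rw [map_mul]; group⟩
  inv_mem' := by
    rintro _ ⟨m, hm, A, rfl⟩
    refine ⟨(C.D.ψ A⁻¹) * m⁻¹ * (C.D.ψ A⁻¹)⁻¹, C.conj_mem_M _ (inv_mem hm), A⁻¹, ?_⟩
    rw [map_inv]; group

theorem ψ_mem (A : GL (Fin (N + 2)) F) : C.D.ψ A ∈ C.P := ⟨1, one_mem _, A, by simp⟩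

theorem M_mem {m : G} (hm : m ∈ C.D.M) : m ∈ C.P := ⟨m, hm, 1, by simp⟩

theorem zz_mem (u : F) : C.D.zz u ∈ C.P :=
  C.M_mem (by rw [← C.D.Zv_bv u]; exact (C.D.Zm _ u).2)

/-- A double coset of a representative. -/
def InX (g : G) : Prop := ∃ S, ∃ p ∈ C.P, ∃ q ∈ C.P, g = p * C.w S * q

theorem InX.left {g p : G} (hp : p ∈ C.P) (h : C.InX g) : C.InX (p * g) := by
  obtain ⟨S, a, ha, b, hb, rfl⟩ := h
  exact ⟨S, p * a, mul_mem hp ha, b, hb, by group⟩

theorem InX.right {g q : G} (hq : q ∈ C.P) (h : C.InX g) : C.InX (g * q) := by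
  obtain ⟨S, a, ha, b, hb, rfl⟩ := h
  exact ⟨S, a, ha, b * q, mul_mem hb hq, by group⟩

theorem X_w (S : Finset (Fin (N + 2))) : C.InX (C.w S) := ⟨S, 1, one_mem _, 1, one_mem _, by simp⟩

theorem n_comm_w (S : Finset (Fin (N + 2))) : Commute C.n (C.w S) :=
  C.commute_w fun i _ => by rw [← C.nn_zero]; exact C.comm_nn 0 i

theorem rank_one (c : F) (T : Finset (Fin (N + 2))) : C.InX (C.n * C.D.zz c * C.w T) := by
  have hz : ∀ (u : F) (S : Finset (Fin (N + 2))), (0 : Fin (N + 2)) ∉ S → Commute (C.D.zz u) (C.w S) := by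
    intro u S hS
    refine C.commute_w fun i hi => ?_
    rw [← C.D.Zv_bv]
    exact (C.nn_Zv (Pi.single_eq_of_ne (fun e => hS (by rw [← e]; exact hi)) _) u).symm
  by_cases h0 : (0 : Fin (N + 2)) ∈ T
  · obtain ⟨S, hS, rfl⟩ : ∃ S, (0 : Fin (N + 2)) ∉ S ∧ T = insert 0 S :=
      ⟨T.erase 0, by simp, (Finset.insert_erase h0).symm⟩
    have hd : Commute (C.D.ψ (dg 0 (-1))) (C.w S) :=
      C.commute_w fun i hi => (C.nn_dg (fun e => hS (by rw [← e]; exact hi)) _).symm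
    rw [C.w_insert hS, C.nn_zero]
    by_cases hc : c = 0
    · subst hc
      rw [C.D.zz_zero, mul_one, ← mul_assoc, C.nsq]
      exact InX.left C (C.ψ_mem _) (C.X_w S)
    · have e := C.powers (Units.mk0 c hc)⁻¹
      rw [Units.val_inv_eq_inv_val, Units.val_mk0, inv_inv] at e
      have e2 : C.n * C.D.zz c * C.n =
          ((C.D.zz c⁻¹)⁻¹ * C.D.ψ (dg 0 (Units.mk0 c hc)⁻¹)) * C.n * ((C.D.zz c⁻¹)⁻¹ * C.D.ψ (dg 0 (-1))) := by
        rw [← C.nsq]
        calc C.n * C.D.zz c * C.n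
            = (C.D.zz c⁻¹)⁻¹ * (C.D.zz c⁻¹ * (C.n * C.D.zz c * C.n⁻¹) * C.D.zz c⁻¹) *
              ((C.D.zz c⁻¹)⁻¹ * (C.n * C.n)) := by group
          _ = _ := by rw [e]; group
      have e3 : Commute ((C.D.zz c⁻¹)⁻¹ * C.D.ψ (dg 0 (-1))) (C.w S) := ((hz _ S hS).inv_left).mul_left hd
      refine ⟨insert 0 S, _, mul_mem (inv_mem (C.zz_mem c⁻¹)) (C.ψ_mem (dg 0 (Units.mk0 c hc)⁻¹)), _,
        mul_mem (inv_mem (C.zz_mem c⁻¹)) (C.ψ_mem (dg 0 (-1))), ?_⟩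
      rw [C.w_insert hS, C.nn_zero, ← mul_assoc, e2, mul_assoc, e3.eq]
      group
  · rw [mul_assoc, (hz c T h0).eq, ← mul_assoc]
    refine InX.right C (C.zz_mem c) ?_
    rw [← C.nn_zero, ← C.w_insert h0]
    exact C.X_w _

/-- The pivots allowed at a cell. -/
noncomputable def Rg (S : Finset (Fin (N + 2))) : Subgroup (GL (Fin (N + 2)) F) :=
  (C.P.comap (MulAut.conj (C.w S)⁻¹).toMonoidHom).comap C.D.ψ

theorem mem_Rg {S : Finset (Fin (N + 2))} {R : GL (Fin (N + 2)) F} :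
    R ∈ C.Rg S ↔ (C.w S)⁻¹ * C.D.ψ R * C.w S ∈ C.P := by
  simp [Rg]

theorem tr_mem_Rg {S : Finset (Fin (N + 2))} {a b : Fin (N + 2)} (h : a ≠ b) (hab : a ∈ S → b ∈ S) (t : F) :
    tr h t ∈ C.Rg S := by
  rw [C.mem_Rg]
  have far : ∀ U : Finset (Fin (N + 2)), a ∉ U → b ∉ U → ∀ x : G,
      (x = C.D.ψ (tr h t) ∨ ∃ s, x = C.D.ψ (tr h.symm s)) → (C.w U)⁻¹ * x * C.w U = x := by
    intro U haU hbU x hx
    have hc : Commute x (C.w U) := C.commute_w fun i hi => by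
      have h1 : i ≠ a := fun e => haU (e ▸ hi)
      have h2 : i ≠ b := fun e => hbU (e ▸ hi)
      rcases hx with rfl | ⟨s, rfl⟩
      · exact (C.nn_tr h h1 h2 t).symm
      · exact (C.nn_tr h.symm h2 h1 s).symm
    rw [mul_assoc, hc.eq, inv_mul_cancel_left]
  by_cases hb : b ∈ S
  · obtain ⟨U, hbU, rfl⟩ : ∃ U, b ∉ U ∧ S = insert b U := ⟨S.erase b, by simp, (Finset.insert_erase hb).symm⟩
    have e1 : (C.nn b)⁻¹ * C.D.ψ (tr h t) * C.nn b = (C.D.Bm (bv b) (bv a) t : G) := by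
      rw [← C.nn_Bm h t]
      group
    by_cases ha : a ∈ U
    · obtain ⟨V, haV, rfl⟩ : ∃ V, a ∉ V ∧ U = insert a V := ⟨U.erase a, by simp, (Finset.insert_erase ha).symm⟩
      rw [Finset.mem_insert, not_or] at hbU
      have e2 : (C.nn a)⁻¹ * (C.D.Bm (bv b) (bv a) t : G) * C.nn a = C.D.ψ (tr h.symm (-t)) := by
        have := C.nn_T h.symm (-t)
        rw [neg_neg, SymData.Bm_symm] at this
        rw [← this]
        group
      rw [C.w_insert (by simp [hbU.1, hbU.2]), C.w_insert haV]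
      rw [show (C.nn b * (C.nn a * C.w V))⁻¹ * C.D.ψ (tr h t) * (C.nn b * (C.nn a * C.w V)) =
        (C.w V)⁻¹ * ((C.nn a)⁻¹ * ((C.nn b)⁻¹ * C.D.ψ (tr h t) * C.nn b) * C.nn a) * C.w V by group,
        e1, e2, far V haV hbU.2 _ (Or.inr ⟨_, rfl⟩)]
      exact C.ψ_mem _
    · rw [C.w_insert hbU]
      have e2 : Commute (C.D.Bm (bv b) (bv a) t : G) (C.w U) := C.commute_w fun i hi => by
        have h1 : i ≠ a := fun e => ha (e ▸ hi)
        have h2 : i ≠ b := fun e => hbU (e ▸ hi)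
        have e : (C.D.Bm (bv b) (bv a) t : G) =
            C.D.Zv (bv b + bv a) t * (C.D.Zv (bv b) t * C.D.Zv (bv a) t)⁻¹ := by
          rw [← div_eq_mul_inv]; rfl
        rw [e]
        exact ((C.nn_Zv (by simp [h1, h2]) t).mul_right
          ((C.nn_Zv (Pi.single_eq_of_ne h2 _) t).mul_right (C.nn_Zv (Pi.single_eq_of_ne h1 _) t)).inv_right).symm
      rw [show (C.nn b * C.w U)⁻¹ * C.D.ψ (tr h t) * (C.nn b * C.w U) =
        (C.w U)⁻¹ * ((C.nn b)⁻¹ * C.D.ψ (tr h t) * C.nn b) * C.w U by group,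
        e1, mul_assoc, e2.eq, inv_mul_cancel_left]
      exact C.M_mem (SetLike.coe_mem _)
  · rw [far S (fun e => hb (hab e)) hb _ (Or.inl rfl)]
    exact C.ψ_mem _

theorem clear (S : Finset (Fin (N + 2))) (A : GL (Fin (N + 2)) F) :
    ∃ R ∈ C.Rg S, ∃ j, ∀ b, b ≠ j → (A * R).1 0 b = 0 := by
  obtain ⟨b0, hb0⟩ : ∃ b, A.1 0 b ≠ 0 := by
    by_contra h
    push Not at h
    have := Matrix.ext_iff.2 (congrArg Units.val (mul_inv_cancel A)) 0 0
    rw [Units.val_mul, Matrix.mul_apply] at this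
    simp [h] at this
  obtain ⟨j, hj, hjS⟩ : ∃ j, A.1 0 j ≠ 0 ∧ ∀ b, A.1 0 b ≠ 0 → j ∈ S → b ∈ S := by
    by_cases h : ∃ a, A.1 0 a ≠ 0 ∧ a ∉ S
    · obtain ⟨a, ha, haS⟩ := h
      exact ⟨a, ha, fun b _ e => absurd e haS⟩
    · push Not at h
      exact ⟨b0, hb0, fun b hb _ => h b hb⟩
  have key : ∀ s : Finset (Fin (N + 2)), j ∉ s → ∃ R ∈ C.Rg S,
      (∀ b ∈ s, (A * R).1 0 b = 0) ∧ ∀ b, b ∉ s → (A * R).1 0 b = A.1 0 b := by
    intro s
    induction s using Finset.induction_on with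
    | empty => exact fun _ => ⟨1, one_mem _, by simp, by simp⟩
    | insert c s hc ih =>
      intro hjs
      rw [Finset.mem_insert, not_or] at hjs
      obtain ⟨R, hR, h1, h2⟩ := ih hjs.2
      by_cases hc0 : A.1 0 c = 0
      · refine ⟨R, hR, fun b hb => ?_, fun b hb => h2 b fun e => hb (Finset.mem_insert_of_mem e)⟩
        rcases Finset.mem_insert.1 hb with rfl | hb
        · rw [h2 b hc, hc0]
        · exact h1 b hb
      set t := -(A.1 0 c / A.1 0 j)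
      refine ⟨R * tr hjs.1 t, mul_mem hR (C.tr_mem_Rg _ (hjS c hc0) t), ?_⟩
      have e : ∀ b, (A * (R * tr hjs.1 t)).1 0 b = (A * R).1 0 b + if b = c then t * (A * R).1 0 j else 0 := by
        intro b
        rw [← mul_assoc, ← gv_apply_col, gv_mul, gv_tr, gv_add]
        simp only [Pi.add_apply, gv_apply_col]
        congr 1
        split_ifs with hb
        · subst hb
          rw [Pi.single_eq_same, mul_one, show (Pi.single j t : Fin (N + 2) → F) = t • Pi.single j (1 : F) by funext p; simp [Pi.single_apply],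
            gv_smul,
            Pi.smul_apply, gv_apply_col, smul_eq_mul]
        · rw [Pi.single_eq_of_ne (Ne.symm hb), mul_zero, Pi.single_zero, gv_zero]
          rfl
      constructor
      · intro b hb
        rw [e b]
        rcases Finset.mem_insert.1 hb with rfl | hb
        · rw [if_pos rfl, h2 b hc, h2 j hjs.2]
          simp only [t]
          field_simp
          ring
        · rw [if_neg (fun ee : b = c => hc (ee ▸ hb)), h1 b hb, add_zero]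
      · intro b hb
        rw [Finset.mem_insert, not_or] at hb
        rw [e b, if_neg hb.1, h2 b hb.2, add_zero]
  obtain ⟨R, hR, h1, -⟩ := key (Finset.univ.erase j) (Finset.notMem_erase _ _)
  exact ⟨R, hR, j, fun b hb => h1 b (Finset.mem_erase.2 ⟨hb, Finset.mem_univ _⟩)⟩

theorem n_colU (c : Fin (N + 1) → F) : C.n * C.D.ψ (colU c) * C.n⁻¹ ∈ C.D.M := by
  rw [← Finset.univ_sum_single c]
  refine Finset.sum_induction _ (fun c => C.n * C.D.ψ (colU c) * C.n⁻¹ ∈ C.D.M) ?_ ?_ fun j _ => ?_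
  · intro a b ha hb
    rw [colU_add, map_mul]
    have := mul_mem ha hb
    convert this using 1
    group
  · simp [colU_zero]
  · rw [colU_single, C.n_T]
    exact SetLike.coe_mem _

theorem n_C (B : GL (Fin (N + 1)) F) (c : Fin (N + 1) → F) (a : Fˣ) :
    ∃ p ∈ C.P, C.n * C.D.ψ (colU c * dg 0 a * emb B) = p * C.n := by
  refine ⟨C.n * C.D.ψ (colU c) * C.n⁻¹ * (C.n * C.D.ψ (dg 0 a) * C.n⁻¹) * C.D.ψ (emb B),
    mul_mem (mul_mem (C.M_mem (C.n_colU c)) (by rw [C.n_dg]; exact C.ψ_mem _)) (C.ψ_mem _), ?_⟩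
  rw [map_mul, map_mul, mul_assoc (C.n * C.D.ψ (colU c) * C.n⁻¹ * (C.n * C.D.ψ (dg 0 a) * C.n⁻¹)),
    ← (C.hcE B).eq]
  group

theorem M_split {m : G} (hm : m ∈ C.D.M) :
    ∃ S : Matrix (Fin (N + 2)) (Fin (N + 2)) F, S.transpose = S ∧ m = (SymData.sig C.D S : G) := by
  refine Subgroup.closure_induction (p := fun m _ => ∃ S : Matrix (Fin (N + 2)) (Fin (N + 2)) F,
    S.transpose = S ∧ m = (SymData.sig C.D S : G)) ?_ ?_ ?_ ?_ hm
  · rintro _ ⟨⟨v, u⟩, rfl⟩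
    exact ⟨u • vecMulVec v v, by rw [transpose_smul, transpose_vecMulVec], by
      rw [SymData.sig_rankOne C.H]; rfl⟩
  · exact ⟨0, transpose_zero, by rw [SymData.sig_zero]; rfl⟩
  · rintro x y _ _ ⟨S, hS, rfl⟩ ⟨T, hT, rfl⟩
    exact ⟨S + T, by rw [transpose_add, hS, hT], by rw [SymData.sig_add, Subgroup.coe_mul]⟩
  · rintro x _ ⟨S, hS, rfl⟩
    refine ⟨-S, by rw [transpose_neg, hS], ?_⟩
    have h := SymData.sig_add C.D S (-S)
    rw [add_neg_cancel, SymData.sig_zero] at h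
    rw [← Subgroup.coe_inv, inv_eq_of_mul_eq_one_right h.symm]

theorem n_sig (S : Matrix (Fin (N + 2)) (Fin (N + 2)) F) :
    ∃ p ∈ C.P, C.n * (SymData.sig C.D S : G) = p * C.n * C.D.zz (S 0 0) := by
  let X : Subgroup C.D.M :=
    (C.P.comap (MulAut.conj C.n).toMonoidHom).comap C.D.M.subtype
  have hX : ∀ x : C.D.M, x ∈ X ↔ C.n * (x : G) * C.n⁻¹ ∈ C.P := fun x => by simp [X, Subgroup.mem_subgroupOf]
  have key : ∀ i j, (i, j) ≠ ((0 : Fin (N + 2)), (0 : Fin (N + 2))) → SymData.part C.D S i j ∈ X := by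
    intro i j hij
    rw [hX]
    simp only [SymData.part]
    split_ifs with h1 h2
    · subst h1
      have hi : i ≠ 0 := fun e => hij (by rw [e])
      show C.n * C.D.Zv (bv i) (S i i) * C.n⁻¹ ∈ C.P
      rw [(C.n_Zv (Pi.single_eq_of_ne hi.symm _) _).eq, mul_inv_cancel_right]
      exact C.M_mem ((C.D.Zm (bv i) (S i i)).2)
    · by_cases hi : i = 0
      · subst hi
        rw [C.n_Bm0 (Ne.symm h1)]
        exact C.ψ_mem _
      · have hj : j ≠ 0 := fun e => by subst e; exact absurd h2 (not_lt.2 (Fin.zero_le _))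
        rw [(C.n_Bm (Pi.single_eq_of_ne (Ne.symm hi) _) (Pi.single_eq_of_ne hj.symm _) _).eq, mul_inv_cancel_right]
        exact C.M_mem (SetLike.coe_mem _)
    · simp
  have hsplit : ∃ x ∈ X, SymData.sig C.D S = x * SymData.part C.D S 0 0 := by
    rw [SymData.sig, ← Finset.prod_product', ← Finset.prod_erase_mul _ _ (Finset.mk_mem_product (Finset.mem_univ (0 : Fin (N + 2))) (Finset.mem_univ (0 : Fin (N + 2))))]
    refine ⟨_, Subgroup.prod_mem _ fun x hx => ?_, rfl⟩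
    exact key x.1 x.2 (Finset.mem_erase.1 hx).1
  obtain ⟨x, hx, e⟩ := hsplit
  refine ⟨C.n * (x : G) * C.n⁻¹, (hX x).1 hx, ?_⟩
  rw [e, Subgroup.coe_mul, SymData.part, if_pos rfl, ← C.D.Zv_bv (S 0 0)]
  show C.n * ((x : G) * C.D.Zv (bv 0) (S 0 0)) = _
  group

theorem step {p : G} (hp : p ∈ C.P) (S : Finset (Fin (N + 2))) : C.InX (C.n * p * C.w S) := by
  obtain ⟨m, hm, A, rfl⟩ := hp
  obtain ⟨R, hR, j, hj⟩ := C.clear S A
  set π : Equiv.Perm (Fin (N + 2)) := Equiv.swap 0 j with hπ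
  set A' : GL (Fin (N + 2)) F := A * R * pm π with hA'
  obtain ⟨B, c, a, hA⟩ := eq_mul_of_row A' fun i => by
    rw [← gv_apply_col, hA', gv_mul, gv_pm_single, gv_apply_col]
    refine hj _ fun e => Fin.succ_ne_zero i ?_
    have := congrArg π e
    simpa [hπ] using this
  have eA : A = colU c * dg 0 a * emb B * pm π * R⁻¹ := by
    rw [← hA, hA', mul_assoc (A * R), ← map_mul, hπ, Equiv.swap_mul_self, map_one, mul_one,
      mul_inv_cancel_right]
  set K : GL (Fin (N + 2)) F := colU c * dg 0 a * emb B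
  obtain ⟨p1, hp1, e1⟩ := C.n_C B c a
  obtain ⟨T, -, hT⟩ := C.M_split (C.conj_mem_M K⁻¹ hm)
  obtain ⟨p2, hp2, e2⟩ := C.n_sig T
  rw [map_inv] at hT
  have e3 : C.n * (m * C.D.ψ A) * C.w S = p1 * p2 * (C.n * C.D.zz (T 0 0) * C.w (S.image π)) *
      C.D.ψ (pm π) * ((C.w S)⁻¹ * C.D.ψ R⁻¹ * C.w S) := by
    calc C.n * (m * C.D.ψ A) * C.w S
        = (C.n * C.D.ψ K) * ((C.D.ψ K)⁻¹ * m * (C.D.ψ K)⁻¹⁻¹) * C.D.ψ (pm π) * C.D.ψ R⁻¹ * C.w S := by
          rw [eA, map_mul, map_mul]; group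
      _ = p1 * (p2 * C.n * C.D.zz (T 0 0)) * C.D.ψ (pm π) * C.D.ψ R⁻¹ * C.w S := by
          rw [e1, hT, mul_assoc p1 C.n, e2]
      _ = p1 * p2 * (C.n * C.D.zz (T 0 0) * (C.D.ψ (pm π) * C.w S)) *
            ((C.w S)⁻¹ * C.D.ψ R⁻¹ * C.w S) := by group
      _ = _ := by rw [C.w_conj]; group
  rw [e3]
  exact InX.right C (C.mem_Rg.1 (inv_mem hR)) (InX.right C (C.ψ_mem _)
    (InX.left C (mul_mem hp1 hp2) (C.rank_one _ _)))

theorem all_InX (hgen : Subgroup.closure (Set.range C.D.ψ ∪ Set.range C.D.zz ∪ {C.n}) = ⊤) (g : G) : C.InX g := by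
  have hn : ∀ x, C.InX x → C.InX (C.n * x) := by
    rintro _ ⟨S, p, hp, q, hq, rfl⟩
    rw [← mul_assoc, ← mul_assoc]
    exact InX.right C hq (C.step hp S)
  suffices h : ∀ x, C.InX x → C.InX (g * x) by
    have := h 1 (by rw [← C.w_empty]; exact C.X_w ∅)
    rwa [mul_one] at this
  have hg : g ∈ Subgroup.closure (Set.range C.D.ψ ∪ Set.range C.D.zz ∪ {C.n}) := by rw [hgen]; trivial
  induction hg using Subgroup.closure_induction'' with
  | one => simp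
  | mul x y _ _ hx hy => intro z hz; rw [mul_assoc]; exact hx _ (hy _ hz)
  | mem x hx =>
    intro z hz
    rcases hx with (⟨A, rfl⟩ | ⟨u, rfl⟩) | rfl
    · exact InX.left C (C.ψ_mem A) hz
    · exact InX.left C (C.zz_mem u) hz
    · exact hn z hz
  | inv_mem x hx =>
    intro z hz
    rcases hx with (⟨A, rfl⟩ | ⟨u, rfl⟩) | rfl
    · exact InX.left C (inv_mem (C.ψ_mem A)) hz
    · exact InX.left C (inv_mem (C.zz_mem u)) hz
    · rw [show C.n⁻¹ = C.n * (C.n * C.n)⁻¹ by group, C.nsq, mul_assoc]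
      exact hn _ (InX.left C (inv_mem (C.ψ_mem _)) hz)

theorem injective {K : Type*} [Group K] (Φ : G →* K)
    (hgen : Subgroup.closure (Set.range C.D.ψ ∪ Set.range C.D.zz ∪ {C.n}) = ⊤)
    (hP : ∀ x ∈ C.P, Φ x = 1 → x = 1) (hw : ∀ S, Φ (C.w S) ∈ C.P.map Φ → S = ∅) :
    Function.Injective Φ := by
  rw [injective_iff_map_eq_one]
  intro g hg
  obtain ⟨S, p, hp, q, hq, rfl⟩ := C.all_InX hgen g
  have hS : S = ∅ := hw S ⟨p⁻¹ * q⁻¹, mul_mem (inv_mem hp) (inv_mem hq), by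
    rw [map_mul, map_mul] at hg
    rw [map_mul, map_inv, map_inv]
    calc (Φ p)⁻¹ * (Φ q)⁻¹ = (Φ p)⁻¹ * (Φ p * Φ (C.w S) * Φ q) * (Φ q)⁻¹ := by rw [hg]; group
      _ = Φ (C.w S) := by group⟩
  subst hS
  rw [C.w_empty, mul_one] at hg ⊢
  exact hP _ (mul_mem hp hq) hg

end CellData

end CfsgLib.SpShort
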