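import Cfsg.Agent.Lib.TwoGenClassical.Basic

/-!
# Elements and stabilizers in the general linear group
-/

namespace CfsgLib.SpShort

open Matrix

variable {F : Type*} [Field F] {k : ℕ}

/-- The action on columns. -/
def gv {n : ℕ} (A : GL (Fin n) F) (v : Fin n → F) : Fin n → F := (A : Matrix (Fin n) (Fin n) F) *ᵥ v

theorem gv_mul {n : ℕ} (A B : GL (Fin n) F) (v : Fin n → F) : gv (A * B) v = gv A (gv B v) := by
  simp [gv, Matrix.mulVec_mulVec]

theorem gv_one {n : ℕ} (v : Fin n → F) : gv (1 : GL (Fin n) F) v = v := by simp [gv]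

theorem gv_add {n : ℕ} (A : GL (Fin n) F) (v w : Fin n → F) : gv A (v + w) = gv A v + gv A w :=
  Matrix.mulVec_add _ _ _

theorem gv_smul {n : ℕ} (A : GL (Fin n) F) (a : F) (v : Fin n → F) : gv A (a • v) = a • gv A v :=
  Matrix.mulVec_smul _ _ _

theorem gv_zero {n : ℕ} (A : GL (Fin n) F) : gv A 0 = 0 := Matrix.mulVec_zero _

theorem gv_inv {n : ℕ} (A : GL (Fin n) F) (v : Fin n → F) : gv A⁻¹ (gv A v) = v := by
  rw [← gv_mul, inv_mul_cancel, gv_one]

theorem gl_ext {n : ℕ} {A B : GL (Fin n) F} (h : ∀ v, gv A v = gv B v) : A = B :=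
  Units.ext (Matrix.ext_of_mulVec_single fun _ => h _)

theorem gv_apply_col {n : ℕ} (A : GL (Fin n) F) (j i : Fin n) : gv A (Pi.single j 1) i = A.1 i j := by
  simp [gv]

/-- Build an invertible element from mutually inverse linear maps. -/
noncomputable def mkGL {n : ℕ} (f g : (Fin n → F) →ₗ[F] (Fin n → F)) (h1 : f.comp g = LinearMap.id)
    (h2 : g.comp f = LinearMap.id) : GL (Fin n) F where
  val := LinearMap.toMatrix' f
  inv := LinearMap.toMatrix' g
  val_inv := by rw [← LinearMap.toMatrix'_comp, h1, LinearMap.toMatrix'_id]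
  inv_val := by rw [← LinearMap.toMatrix'_comp, h2, LinearMap.toMatrix'_id]

theorem gv_mkGL {n : ℕ} (f g : (Fin n → F) →ₗ[F] (Fin n → F)) (h1 : f.comp g = LinearMap.id)
    (h2 : g.comp f = LinearMap.id) (v : Fin n → F) : gv (mkGL f g h1 h2) v = f v :=
  LinearMap.toMatrix'_mulVec f v

/-- A transvection. -/
def tr {n : ℕ} {i j : Fin n} (h : i ≠ j) (t : F) : GL (Fin n) F :=
  Matrix.SpecialLinearGroup.toGL (Matrix.SpecialLinearGroup.transvection h t)

theorem gv_tr {n : ℕ} {i j : Fin n} (h : i ≠ j) (t : F) (v : Fin n → F) :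
    gv (tr h t) v = v + Pi.single i (t * v j) := by
  show (1 + Matrix.single i j t) *ᵥ v = _
  rw [Matrix.add_mulVec, Matrix.one_mulVec]
  congr 1
  funext p
  by_cases hp : p = i
  · subst hp; simp [Matrix.mulVec, dotProduct, Matrix.single_apply]
  · simp [Matrix.mulVec, dotProduct, Matrix.single_apply, hp, Ne.symm hp]

theorem tr_add {n : ℕ} {i j : Fin n} (h : i ≠ j) (s t : F) : tr h (s + t) = tr h s * tr h t :=
  gl_ext fun v => by
    funext p
    simp only [gv_mul, gv_tr, Pi.add_apply, Pi.single_apply]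
    simp only [Ne.symm h, if_false, add_zero]
    split_ifs <;> ring

theorem tr_zero {n : ℕ} {i j : Fin n} (h : i ≠ j) : tr h (0 : F) = 1 :=
  gl_ext fun v => by simp [gv_tr, gv_one]

theorem tr_neg {n : ℕ} {i j : Fin n} (h : i ≠ j) (t : F) : tr h (-t) = (tr h t)⁻¹ :=
  eq_inv_of_mul_eq_one_left (by rw [← tr_add, neg_add_cancel, tr_zero])

/-- A diagonal element with one entry different from one. -/
def dg {n : ℕ} (i : Fin n) : Fˣ →* GL (Fin n) F where
  toFun a :=
    { val := Matrix.diagonal (Function.update 1 i (a : F))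
      inv := Matrix.diagonal (Function.update 1 i ((a⁻¹ : Fˣ) : F))
      val_inv := by
        rw [Matrix.diagonal_mul_diagonal, ← Matrix.diagonal_one]
        congr 1; funext j; by_cases h : j = i <;> simp [h]
      inv_val := by
        rw [Matrix.diagonal_mul_diagonal, ← Matrix.diagonal_one]
        congr 1; funext j; by_cases h : j = i <;> simp [h] }
  map_one' := Units.ext (by
    show Matrix.diagonal (Function.update (1 : Fin n → F) i ((1 : Fˣ) : F)) = 1
    rw [← Matrix.diagonal_one]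
    congr 1; funext j; by_cases h : j = i <;> simp [h])
  map_mul' a b := Units.ext (by
    show Matrix.diagonal _ = Matrix.diagonal _ * Matrix.diagonal _
    rw [Matrix.diagonal_mul_diagonal]
    congr 1; funext j; by_cases h : j = i <;> simp [h])

theorem gv_dg {n : ℕ} (i : Fin n) (a : Fˣ) (v : Fin n → F) :
    gv (dg i a) v = Function.update v i (a * v i) := by
  funext p
  show (Matrix.diagonal _ *ᵥ v) p = _
  rw [Matrix.mulVec_diagonal]
  by_cases h : p = i
  · subst h; simp
  · simp [h]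

theorem det_dg {n : ℕ} (i : Fin n) (a : Fˣ) : ((dg i a : GL (Fin n) F) : Matrix (Fin n) (Fin n) F).det = a := by
  show (Matrix.diagonal _).det = _
  rw [Matrix.det_diagonal, Finset.prod_update_of_mem (Finset.mem_univ i)]
  simp

/-- Permutation matrices. -/
abbrev pm {n : ℕ} (σ : Equiv.Perm (Fin n)) : GL (Fin n) F := CfsgLib.TwoGenCl.permG F σ

theorem gv_pm {n : ℕ} (σ : Equiv.Perm (Fin n)) (v : Fin n → F) : gv (pm σ) v = v ∘ σ.symm :=
  funext fun i => CfsgLib.TwoGenCl.permM_mulVec F σ v i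

theorem gv_pm_single {n : ℕ} (σ : Equiv.Perm (Fin n)) (i : Fin n) (a : F) :
    gv (pm σ) (Pi.single i a) = Pi.single (σ i) a := by
  rw [gv_pm]
  funext p
  simp [Pi.single_apply, Equiv.symm_apply_eq]

theorem conj_eq {n : ℕ} {A B C : GL (Fin n) F} (h : ∀ v, gv A (gv B v) = gv C (gv A v)) :
    A * B * A⁻¹ = C :=
  mul_inv_eq_iff_eq_mul.2 (gl_ext fun v => by rw [gv_mul, gv_mul, h])

theorem pm_tr {n : ℕ} (σ : Equiv.Perm (Fin n)) {i j : Fin n} (h : i ≠ j) (t : F) :
    pm σ * tr h t * (pm σ)⁻¹ = tr (σ.injective.ne h) t := by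
  refine conj_eq fun v => ?_
  funext p
  simp [gv_pm, gv_tr, Pi.single_apply, Equiv.symm_apply_eq]

theorem pm_dg {n : ℕ} (σ : Equiv.Perm (Fin n)) (i : Fin n) (a : Fˣ) :
    pm σ * dg i a * (pm σ)⁻¹ = dg (σ i) a := by
  refine conj_eq fun v => ?_
  funext p
  simp only [gv_pm, gv_dg, Function.comp_apply, Function.update_apply, Equiv.symm_apply_eq,
    Equiv.symm_apply_apply]

theorem dg_comm {n : ℕ} (i j : Fin n) (a b : Fˣ) : Commute (dg i a : GL (Fin n) F) (dg j b) :=
  Units.ext (by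
    show Matrix.diagonal _ * Matrix.diagonal _ = Matrix.diagonal _ * Matrix.diagonal _
    rw [Matrix.diagonal_mul_diagonal, Matrix.diagonal_mul_diagonal]
    congr 1; funext p; ring)

theorem dg_tr_left {n : ℕ} (a : Fˣ) {i j : Fin n} (h : i ≠ j) (t : F) :
    dg i a * tr h t * (dg i a)⁻¹ = tr h ((a : F) * t) := by
  refine conj_eq fun v => ?_
  funext p
  simp only [gv_dg, gv_tr, Pi.add_apply, Pi.single_apply, Function.update_apply, Ne.symm h, if_false, add_zero]
  split_ifs <;> ring

theorem dg_tr_right {n : ℕ} (a : Fˣ) {i j : Fin n} (h : i ≠ j) (t : F) :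
    dg j a * tr h t * (dg j a)⁻¹ = tr h ((a : F)⁻¹ * t) := by
  refine conj_eq fun v => ?_
  funext p
  have ha : (a : F) ≠ 0 := a.ne_zero
  by_cases hp : p = i
  · subst hp
    simp [gv_dg, gv_tr, h]
    field_simp
  · simp [gv_dg, gv_tr, Function.update_apply, hp, h, Ne.symm h]

/-! ### Splitting off the first index -/

theorem gv_cons_ext {A B : GL (Fin (k + 1)) F}
    (h : ∀ (a : F) (w : Fin k → F), gv A (Fin.cons a w) = gv B (Fin.cons a w)) : A = B :=
  gl_ext fun v => by rw [← Fin.cons_self_tail v]; exact h _ _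

/-- The matrix of the embedding. -/
def embM (B : Matrix (Fin k) (Fin k) F) : Matrix (Fin (k + 1)) (Fin (k + 1)) F :=
  Matrix.of (Fin.cons (Fin.cons 1 0) fun i => Fin.cons 0 (B i))

theorem embM_mulVec (B : Matrix (Fin k) (Fin k) F) (a : F) (w : Fin k → F) :
    embM B *ᵥ Fin.cons a w = Fin.cons a (B *ᵥ w) := by
  funext p
  refine Fin.cases ?_ (fun i => ?_) p <;>
    simp [embM, Matrix.mulVec, dotProduct, Fin.sum_univ_succ]

theorem embM_mul (B C : Matrix (Fin k) (Fin k) F) : embM (B * C) = embM B * embM C := by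
  refine Matrix.ext_of_mulVec_single fun j => ?_
  rw [← Fin.cons_self_tail (Pi.single j (1 : F) : Fin (k + 1) → F), ← Matrix.mulVec_mulVec, embM_mulVec,
    embM_mulVec, embM_mulVec, Matrix.mulVec_mulVec]

theorem embM_one : embM (1 : Matrix (Fin k) (Fin k) F) = 1 := by
  refine Matrix.ext_of_mulVec_single fun j => ?_
  rw [← Fin.cons_self_tail (Pi.single j (1 : F) : Fin (k + 1) → F), embM_mulVec, Matrix.one_mulVec,
    Matrix.one_mulVec]

/-- The stabilizer of the first basis vector and of the complement. -/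
def emb : GL (Fin k) F →* GL (Fin (k + 1)) F where
  toFun B :=
    { val := embM B.val
      inv := embM B.inv
      val_inv := by rw [← embM_mul, B.val_inv, embM_one]
      inv_val := by rw [← embM_mul, B.inv_val, embM_one] }
  map_one' := Units.ext embM_one
  map_mul' B C := Units.ext (embM_mul B.val C.val)

theorem gv_emb (B : GL (Fin k) F) (a : F) (w : Fin k → F) : gv (emb B) (Fin.cons a w) = Fin.cons a (gv B w) :=
  embM_mulVec B.val a w

/-- A row addition. -/
noncomputable def rowU (r : Fin k → F) : GL (Fin (k + 1)) F :=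
  mkGL
    { toFun := fun v => Fin.cons (v 0 + r ⬝ᵥ Fin.tail v) (Fin.tail v)
      map_add' := fun v w => by
        rw [show Fin.tail (v + w) = Fin.tail v + Fin.tail w from rfl, dotProduct_add]
        funext p; refine Fin.cases ?_ (fun i => ?_) p <;> simp [Fin.tail]; ring
      map_smul' := fun a v => by
        rw [show Fin.tail (a • v) = a • Fin.tail v from rfl, dotProduct_smul]
        funext p; refine Fin.cases ?_ (fun i => ?_) p <;> simp [Fin.tail]; ring }
    { toFun := fun v => Fin.cons (v 0 - r ⬝ᵥ Fin.tail v) (Fin.tail v)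
      map_add' := fun v w => by
        rw [show Fin.tail (v + w) = Fin.tail v + Fin.tail w from rfl, dotProduct_add]
        funext p; refine Fin.cases ?_ (fun i => ?_) p <;> simp [Fin.tail]; ring
      map_smul' := fun a v => by
        rw [show Fin.tail (a • v) = a • Fin.tail v from rfl, dotProduct_smul]
        funext p; refine Fin.cases ?_ (fun i => ?_) p <;> simp [Fin.tail]; ring }
    (LinearMap.ext fun v => by simp [Fin.cons_self_tail])
    (LinearMap.ext fun v => by simp [Fin.cons_self_tail])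

theorem gv_rowU (r : Fin k → F) (a : F) (w : Fin k → F) :
    gv (rowU r) (Fin.cons a w) = Fin.cons (a + r ⬝ᵥ w) w := by
  rw [rowU, gv_mkGL]; simp

theorem rowU_add (r s : Fin k → F) : rowU (r + s) = rowU r * rowU s := by
  refine gv_cons_ext fun a w => ?_
  rw [gv_mul, gv_rowU, gv_rowU, gv_rowU, add_dotProduct]
  congr 1; ring

theorem rowU_zero : rowU (0 : Fin k → F) = 1 :=
  gv_cons_ext fun a w => by rw [gv_rowU, gv_one, zero_dotProduct, add_zero]

theorem rowU_single (j : Fin k) (a : F) :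
    rowU (Pi.single j a) = tr (Fin.succ_ne_zero j).symm a := by
  refine gv_cons_ext fun b w => ?_
  rw [gv_rowU, gv_tr, single_dotProduct, Fin.cons_succ]
  funext p
  refine Fin.cases ?_ (fun i => ?_) p <;> simp [Fin.succ_ne_zero]

/-- A column addition. -/
noncomputable def colU (c : Fin k → F) : GL (Fin (k + 1)) F :=
  mkGL
    { toFun := fun v => Fin.cons (v 0) (Fin.tail v + v 0 • c)
      map_add' := fun v w => by
        funext p; refine Fin.cases ?_ (fun i => ?_) p <;> simp [Fin.tail]; ring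
      map_smul' := fun a v => by
        funext p; refine Fin.cases ?_ (fun i => ?_) p <;> simp [Fin.tail]; ring }
    { toFun := fun v => Fin.cons (v 0) (Fin.tail v - v 0 • c)
      map_add' := fun v w => by
        funext p; refine Fin.cases ?_ (fun i => ?_) p <;> simp [Fin.tail]; ring
      map_smul' := fun a v => by
        funext p; refine Fin.cases ?_ (fun i => ?_) p <;> simp [Fin.tail]; ring }
    (LinearMap.ext fun v => by simp [Fin.cons_self_tail])
    (LinearMap.ext fun v => by simp [Fin.cons_self_tail])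

theorem gv_colU (c : Fin k → F) (a : F) (w : Fin k → F) :
    gv (colU c) (Fin.cons a w) = Fin.cons a (w + a • c) := by
  rw [colU, gv_mkGL]; simp

theorem colU_add (r s : Fin k → F) : colU (r + s) = colU r * colU s := by
  refine gv_cons_ext fun a w => ?_
  rw [gv_mul, gv_colU, gv_colU, gv_colU, smul_add]
  congr 1; abel

theorem colU_zero : colU (0 : Fin k → F) = 1 :=
  gv_cons_ext fun a w => by rw [gv_colU, gv_one, smul_zero, add_zero]

theorem colU_single (j : Fin k) (a : F) : colU (Pi.single j a) = tr (Fin.succ_ne_zero j) a := by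
  refine gv_cons_ext fun b w => ?_
  rw [gv_colU, gv_tr, Fin.cons_zero]
  funext p
  refine Fin.cases ?_ (fun i => ?_) p
  · simp [(Fin.succ_ne_zero j).symm]
  · simp [Pi.single_apply, mul_comm]

/-- The lower right block of an invertible block triangular matrix. -/
theorem exists_block (A : GL (Fin (k + 1)) F)
    (h : (∀ i : Fin k, A.1 i.succ 0 = 0 ∧ (A⁻¹ : GL (Fin (k + 1)) F).1 i.succ 0 = 0) ∨
      (∀ i : Fin k, A.1 0 i.succ = 0 ∧ (A⁻¹ : GL (Fin (k + 1)) F).1 0 i.succ = 0)) :
    ∃ B : GL (Fin k) F, ∀ i j, B.1 i j = A.1 i.succ j.succ := by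
  have key : ∀ M M' : GL (Fin (k + 1)) F, M * M' = 1 →
      ((∀ i : Fin k, M.1 i.succ 0 = 0) ∨ ∀ i : Fin k, M'.1 0 i.succ = 0) →
      M.1.submatrix Fin.succ Fin.succ * M'.1.submatrix Fin.succ Fin.succ = 1 := by
    intro M M' e hz
    ext i j
    have := Matrix.ext_iff.2 (congrArg Units.val e) i.succ j.succ
    rw [Units.val_mul, Matrix.mul_apply, Fin.sum_univ_succ] at this
    have hz' : M.1 i.succ 0 * M'.1 0 j.succ = 0 := by
      rcases hz with hz | hz
      · rw [hz i, zero_mul]
      · rw [hz j, mul_zero]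
    rw [hz', zero_add] at this
    simpa [Matrix.mul_apply, Matrix.one_apply] using this
  refine ⟨⟨A.1.submatrix Fin.succ Fin.succ, A⁻¹.1.submatrix Fin.succ Fin.succ,
    key A A⁻¹ (mul_inv_cancel A) ?_, key A⁻¹ A (inv_mul_cancel A) ?_⟩, fun i j => rfl⟩
  · exact h.imp (fun h i => (h i).1) (fun h i => (h i).2)
  · exact h.imp (fun h i => (h i).2) (fun h i => (h i).1)

theorem eq_mul_of_fix_col (A : GL (Fin (k + 1)) F) (h : gv A (Pi.single 0 1) = Pi.single 0 1) :
    ∃ (B : GL (Fin k) F) (r : Fin k → F), A = emb B * rowU r := by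
  have h' : gv A⁻¹ (Pi.single 0 1) = Pi.single 0 1 := by
    conv_lhs => rw [← h]
    exact gv_inv _ _
  obtain ⟨B, hB⟩ := exists_block A (Or.inl fun i =>
    ⟨by rw [← gv_apply_col, h, Pi.single_eq_of_ne (Fin.succ_ne_zero i)],
      by rw [← gv_apply_col, h', Pi.single_eq_of_ne (Fin.succ_ne_zero i)]⟩)
  refine ⟨B, fun j => A.1 0 j.succ, gv_cons_ext fun a w => ?_⟩
  rw [gv_mul, gv_rowU, gv_emb]
  funext p
  refine Fin.cases ?_ (fun i => ?_) p
  · simp [gv, Matrix.mulVec, dotProduct, Fin.sum_univ_succ,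
      show A.1 0 0 = 1 by rw [← gv_apply_col, h, Pi.single_eq_same]]
  · simp [gv, Matrix.mulVec, dotProduct, Fin.sum_univ_succ, hB,
      show A.1 i.succ 0 = 0 by rw [← gv_apply_col, h, Pi.single_eq_of_ne (Fin.succ_ne_zero i)]]

theorem eq_mul_of_row (A : GL (Fin (k + 1)) F) (h : ∀ j : Fin k, A.1 0 j.succ = 0) :
    ∃ (B : GL (Fin k) F) (c : Fin k → F) (a : Fˣ), A = colU c * dg 0 a * emb B := by
  have e : ∀ j, A.1 0 0 * (A⁻¹ : GL (Fin (k + 1)) F).1 0 j = if (0 : Fin (k + 1)) = j then 1 else 0 := by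
    intro j
    have := Matrix.ext_iff.2 (congrArg Units.val (mul_inv_cancel A)) 0 j
    rw [Units.val_mul, Matrix.mul_apply, Fin.sum_univ_succ] at this
    simpa [h, Matrix.one_apply] using this
  have ha : A.1 0 0 ≠ 0 := fun ha => by have := e 0; rw [ha, zero_mul, if_pos rfl] at this; exact zero_ne_one this
  obtain ⟨B, hB⟩ := exists_block A (Or.inr fun i =>
    ⟨h i, by
      have := e i.succ
      rw [if_neg (Fin.succ_ne_zero i).symm] at this
      exact (mul_eq_zero.1 this).resolve_left ha⟩)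
  refine ⟨B, fun i => A.1 i.succ 0 / A.1 0 0, Units.mk0 _ ha, gv_cons_ext fun a w => ?_⟩
  rw [gv_mul, gv_mul, gv_emb, gv_dg, Fin.update_cons_zero, Fin.cons_zero, gv_colU]
  funext p
  refine Fin.cases ?_ (fun i => ?_) p
  · simp [gv, Matrix.mulVec, dotProduct, Fin.sum_univ_succ, h]
  · simp [gv, Matrix.mulVec, dotProduct, Fin.sum_univ_succ, hB]
    field_simp
    ring

theorem exists_col {n : ℕ} [NeZero n] {v : Fin n → F} (hv : v ≠ 0) :
    ∃ A : GL (Fin n) F, gv A (Pi.single 0 1) = v := by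
  obtain ⟨k, rfl⟩ : ∃ k, n = k + 1 := ⟨n - 1, by have := NeZero.pos n; omega⟩
  obtain ⟨i, hi⟩ := Function.ne_iff.1 hv
  set σ := Equiv.swap (0 : Fin (k + 1)) i
  refine ⟨pm σ * colU (fun j => v (σ j.succ) / v i) * dg 0 (Units.mk0 _ hi), ?_⟩
  have e : (Pi.single 0 1 : Fin (k + 1) → F) = Fin.cons 1 0 := by
    funext p; refine Fin.cases ?_ (fun i => ?_) p <;> simp
  rw [gv_mul, gv_mul, e, gv_dg, Fin.update_cons_zero, Fin.cons_zero, Units.val_mk0, mul_one, gv_colU,
    gv_pm, zero_add]
  funext p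
  show (Fin.cons (v i) _ : Fin (k + 1) → F) (σ.symm p) = v p
  obtain ⟨q, rfl⟩ := σ.surjective p
  rw [Equiv.symm_apply_apply]
  refine Fin.cases ?_ (fun j => ?_) q
  · simp [σ]
  · rw [Fin.cons_succ, Pi.smul_apply, smul_eq_mul]
    exact mul_div_cancel₀ _ hi

theorem exists_pair {v w : Fin (k + 2) → F} (hv : v ≠ 0) (hw : ∀ a : F, w ≠ a • v) :
    ∃ A : GL (Fin (k + 2)) F, gv A (Pi.single 0 1) = v ∧ gv A (Pi.single 1 1) = w := by
  obtain ⟨A, hA⟩ := exists_col hv
  set u := gv A⁻¹ w
  have hu : Fin.tail u ≠ 0 := by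
    intro h0
    refine hw (u 0) ?_
    have e : u = u 0 • (Pi.single 0 1 : Fin (k + 2) → F) := by
      funext p
      refine Fin.cases ?_ (fun i => ?_) p
      · simp
      · simpa [Fin.tail] using congrFun h0 i
    calc w = gv A u := by rw [← gv_mul, mul_inv_cancel, gv_one]
      _ = _ := by rw [e, gv_smul, hA]; simp
  obtain ⟨B, hB⟩ := exists_col hu
  obtain ⟨j, hj⟩ := Function.ne_iff.1 hu
  refine ⟨A * (rowU (Pi.single j (u 0 / Fin.tail u j)) * emb B), ?_, ?_⟩
  · have e : (Pi.single 0 1 : Fin (k + 2) → F) = Fin.cons 1 0 := by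
      funext p; refine Fin.cases ?_ (fun i => ?_) p <;> simp
    rw [gv_mul, gv_mul, e, gv_emb, gv_zero, gv_rowU, dotProduct_zero, add_zero, ← e, hA]
  · have e : (Pi.single 1 1 : Fin (k + 2) → F) = Fin.cons 0 (Pi.single 0 1) := by
      funext p
      refine Fin.cases ?_ (fun i => ?_) p
      · simp
      · rw [Fin.cons_succ, ← Fin.succ_zero_eq_one]; simp only [Pi.single_apply, Fin.succ_inj]
    rw [gv_mul, gv_mul, e, gv_emb, hB, gv_rowU, single_dotProduct, zero_add, div_mul_cancel₀ _ hj,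
      Fin.cons_self_tail, ← gv_mul, mul_inv_cancel, gv_one]

/-- Generators of the general linear group. -/
theorem gl_top {n : ℕ} [NeZero n] (M : Subgroup (GL (Fin n) F))
    (hS : ∀ s : Matrix.SpecialLinearGroup (Fin n) F, Matrix.SpecialLinearGroup.toGL s ∈ M)
    (hd : ∀ a : Fˣ, dg 0 a ∈ M) : M = ⊤ := by
  rw [eq_top_iff]
  intro A _
  set a : Fˣ := Matrix.GeneralLinearGroup.det A
  have hdet : ((A * (dg 0 a)⁻¹ : GL (Fin n) F) : Matrix (Fin n) (Fin n) F).det = 1 := by
    rw [← map_inv, Units.val_mul, Matrix.det_mul, det_dg]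
    show (a : F) * ((a⁻¹ : Fˣ) : F) = 1
    rw [← Units.val_mul, mul_inv_cancel, Units.val_one]
  have e : Matrix.SpecialLinearGroup.toGL ⟨_, hdet⟩ = A * (dg 0 a)⁻¹ := Units.ext rfl
  have h := mul_mem (hS ⟨_, hdet⟩) (hd a)
  rwa [e, inv_mul_cancel_right] at h

end CfsgLib.SpShort
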