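import Cfsg.Agent.Lib.SpShort.Cells
import Cfsg.Agent.Lib.TwoGenClassical.Symp

/-!
# The symplectic group satisfies the relations, and they pin it down
-/

namespace CfsgLib.SpShort

open Matrix hiding mul_apply one_apply
open CfsgLib.SympGen
open CfsgLib.SympTransvection (tv)
open CfsgLib.TwoGenCl.Symp

variable {F : Type*} [Field F] {N : ℕ}

local notation "Vec" => (Fin (N + 2) ⊕ Fin (N + 2) → F)
local notation "flp" => CfsgLib.TwoGenCl.Symp.flip
local notation "SpN" => Matrix.symplecticGroup (Fin (N + 2)) F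

/-- A vector in the first half. -/
def topv (v : Fin (N + 2) → F) : Vec := Sum.elim v 0

theorem topv_bv (i : Fin (N + 2)) : topv (bv i : Fin (N + 2) → F) = el i := by
  funext j
  rcases j with j | j <;> simp [topv, el, Pi.single_apply]

theorem topv_add (v w : Fin (N + 2) → F) : topv (v + w) = topv v + topv w := by
  funext j
  rcases j with j | j <;> simp [topv]

theorem topv_smul (a : F) (v : Fin (N + 2) → F) : topv (a • v) = a • topv v := by
  funext j
  rcases j with j | j <;> simp [topv]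

theorem levi_topv (A : GL (Fin (N + 2)) F) (v : Fin (N + 2) → F) : (levi A).1 *ᵥ topv v = topv (gv A v) := by
  rw [levi_inl]
  funext j
  rcases j with j | j <;> simp [topv, gv, Function.comp_def, Matrix.mulVec, dotProduct]

theorem levi_el (A : GL (Fin (N + 2)) F) (i : Fin (N + 2)) : (levi A).1 *ᵥ el i = topv (gv A (bv i)) := by
  rw [← topv_bv, levi_topv]

theorem levi_fr (A : GL (Fin (N + 2)) F) (j : Fin (N + 2)) :
    (levi A).1 *ᵥ fr j = Sum.elim (0 : Fin (N + 2) → F) (fun k => gv A⁻¹ (bv k) j) := by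
  rw [levi_inl]
  funext p
  rcases p with p | p
  · simp [fr, Function.comp_def, Matrix.mulVec, dotProduct]
  · simp only [Sum.elim_inr]
    rw [gv_apply_col]
    simp [fr, Function.comp_def, Matrix.mulVec, dotProduct, Pi.single_apply]

theorem ext_basis {g h : SpN} (he : ∀ i, g.1 *ᵥ el i = h.1 *ᵥ el i) (hf : ∀ i, g.1 *ᵥ fr i = h.1 *ᵥ fr i) :
    g = h := by
  rw [← inv_mul_eq_one]
  refine eq_one_of_fix _ fun i => ?_
  rcases i with i | i
  · show (g⁻¹ * h).1 *ᵥ el i = el i
    rw [mul_apply, ← he, ← mul_apply, inv_mul_cancel, one_apply]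
  · show (g⁻¹ * h).1 *ᵥ fr i = fr i
    rw [mul_apply, ← hf, ← mul_apply, inv_mul_cancel, one_apply]

theorem commute_tv {g : SpN} {v : Vec} (h : g.1 *ᵥ v = v) (c : F) : Commute g (tv v c) := by
  have := conj_tv g v c
  rw [h, mul_inv_eq_iff_eq_mul] at this
  exact this

theorem B_topv (x : Vec) (v : Fin (N + 2) → F) : B x (topv v) = v ⬝ᵥ (x ∘ Sum.inr) := by
  rw [B_def]
  simp [topv, dotProduct, mul_comm]

/-- Upper unitriangular action. -/
def UT (g : SpN) (S : Matrix (Fin (N + 2)) (Fin (N + 2)) F) : Prop :=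
  ∀ x : Vec, g.1 *ᵥ x = Sum.elim (x ∘ Sum.inl + S *ᵥ (x ∘ Sum.inr)) (x ∘ Sum.inr)

theorem UT.one : UT (1 : SpN) 0 := fun x => by
  rw [one_apply, Matrix.zero_mulVec, add_zero, Sum.elim_comp_inl_inr]

theorem UT.mul {g h : SpN} {S T : Matrix (Fin (N + 2)) (Fin (N + 2)) F} (hg : UT g S) (hh : UT h T) :
    UT (g * h) (S + T) := fun x => by
  rw [mul_apply, hg, hh, Sum.elim_comp_inl, Sum.elim_comp_inr, Matrix.add_mulVec, add_comm (S *ᵥ _), add_assoc]

theorem UT.inv {g : SpN} {S : Matrix (Fin (N + 2)) (Fin (N + 2)) F} (hg : UT g S) : UT g⁻¹ (-S) := fun x => by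
  have h : g.1 *ᵥ (Sum.elim (x ∘ Sum.inl + -S *ᵥ (x ∘ Sum.inr)) (x ∘ Sum.inr)) = x := by
    rw [hg, Sum.elim_comp_inl, Sum.elim_comp_inr, add_assoc, ← Matrix.add_mulVec, neg_add_cancel,
      Matrix.zero_mulVec, add_zero, Sum.elim_comp_inl_inr]
  conv_lhs => rw [← h, inv_apply]

theorem UT.eq {g h : SpN} {S : Matrix (Fin (N + 2)) (Fin (N + 2)) F} (hg : UT g S) (hh : UT h S) : g = h :=
  ext_basis (fun i => by rw [hg, hh]) (fun i => by rw [hg, hh])

theorem UT_tv (v : Fin (N + 2) → F) (u : F) : UT (tv (topv v) u) (u • vecMulVec v v) := fun x => by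
  rw [tv_apply, B_topv]
  funext j
  rcases j with j | j
  · simp [topv, Matrix.smul_mulVec, Matrix.vecMulVec_mulVec]
    ring
  · simp [topv]

/-- The long root group in the symplectic group. -/
def zM (F : Type*) [Field F] (N : ℕ) : Multiplicative F →* Matrix.symplecticGroup (Fin (N + 2)) F where
  toFun u := tv (el 0) u.toAdd
  map_one' := by
    refine ext_basis (fun i => ?_) (fun i => ?_) <;> simp [tv_apply, one_apply]
  map_mul' u t := (tv_add _ _ _).symm

theorem zM_apply (u : F) : zM F N (Multiplicative.ofAdd u) = tv (el 0) u := rfl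

theorem gv_emb_bv0 (B : GL (Fin (N + 1)) F) : gv (emb B) (bv (0 : Fin (N + 2))) = bv 0 := by
  have e : (bv 0 : Fin (N + 2) → F) = Fin.cons 1 0 := by
    funext p; refine Fin.cases ?_ (fun i => ?_) p <;> simp
  rw [e, gv_emb, gv_zero]

/-- The symplectic group as data. -/
def symData (ω : Fˣ) (gen : ∀ a : Fˣ, ∃ k : ℕ, a = ω ^ k) : SymData F N SpN where
  ψ := levi
  z := zM F N
  ω := ω
  gen := gen
  scaleω u := by
    rw [zM_apply, zM_apply, conj_tv, levi_el, SymData.gv_dg_bv, topv_smul, topv_bv, tv_smul, pow_two, mul_assoc]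
  fixE B := by
    rw [zM_apply]
    exact commute_tv (by rw [levi_el, gv_emb_bv0, topv_bv]) _
  fixT := by
    rw [zM_apply]
    refine commute_tv ?_ _
    have e : (bv 0 : Fin (N + 2) → F) 1 = 0 := Pi.single_eq_of_ne z01.symm _
    rw [levi_el, gv_tr, e, mul_zero, Pi.single_zero, add_zero, topv_bv]
  comm := by
    rw [zM_apply, conj_tv, levi_perm_el]
    refine commute_tv ?_ _
    simp [tv_apply, B_el_el]

section Image

variable [Finite F] {G : Type*} [Group G] (D : SymData F N G)
  (Φ : G →* Matrix.symplecticGroup (Fin (N + 2)) F)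
  (hψ : ∀ A : GL (Fin (N + 2)) F, Φ (D.ψ A) = levi A)
  (hz : ∀ u : F, Φ (D.zz u) = (tv (el 0) u : Matrix.symplecticGroup (Fin (N + 2)) F))

include hψ hz

theorem image_Zv (v : Fin (N + 2) → F) (u : F) : UT (Φ (D.Zv v u)) (u • vecMulVec v v) := by
  by_cases hv : v = 0
  · subst hv
    rw [D.Zv_zero, map_one, Matrix.vecMulVec_zero, smul_zero]
    exact UT.one
  · obtain ⟨A, hA⟩ := exists_col hv
    rw [D.Zv_eq hA, SymData.cjz, map_mul, map_mul, map_inv, hψ, hz, conj_tv, levi_el, hA]
    exact UT_tv v u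

theorem image_Bm (v w : Fin (N + 2) → F) (u : F) :
    UT (Φ (D.Bm v w u : G)) (u • vecMulVec v w + u • vecMulVec w v) := by
  have e : (D.Bm v w u : G) = D.Zv (v + w) u * (D.Zv v u * D.Zv w u)⁻¹ := by
    rw [← div_eq_mul_inv]; rfl
  rw [e, map_mul, map_inv, map_mul]
  convert (image_Zv D Φ hψ hz (v + w) u).mul ((image_Zv D Φ hψ hz v u).mul (image_Zv D Φ hψ hz w u)).inv using 1
  ext i j
  simp [vecMulVec_apply]
  ring

theorem image_sig (H : D.Quad) {S : Matrix (Fin (N + 2)) (Fin (N + 2)) F} (hS : S.transpose = S) :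
    UT (Φ (SymData.sig D S : G)) S := by
  refine SymData.sym_induction (fun S => UT (Φ (SymData.sig D S : G)) S) ?_ ?_ ?_ hS
  · rw [SymData.sig_zero, OneMemClass.coe_one, map_one]
    exact UT.one
  · intro S T h1 h2
    rw [SymData.sig_add, Subgroup.coe_mul, map_mul]
    exact h1.mul h2
  · intro v u
    rw [SymData.sig_rankOne H]
    exact image_Zv D Φ hψ hz v u

end Image

section Model

variable [Finite F] (ω : Fˣ) (gen : ∀ a : Fˣ, ∃ k : ℕ, a = ω ^ k)

local notation "DM" => (symData ω gen : SymData F N SpN)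

theorem model_quad : (DM).Quad := by
  have h := image_Bm DM (MonoidHom.id SpN) (fun _ => rfl) (fun u => rfl)
  constructor
  · refine Subtype.ext (UT.eq (h _ _ _) ?_)
    convert h (bv 0) (bv 1) ((DM).ω : F) using 1
    all_goals first | rfl | (simp only [one_smul, Matrix.vecMulVec_smul, Matrix.smul_vecMulVec]; done)
  · intro j _
    refine Subtype.ext (UT.eq (h _ _ _) ?_)
    rw [Subgroup.coe_mul]
    convert (h (bv 0) (bv 1) 1).mul (h (bv 0) (bv j) 1) using 1
    all_goals first | rfl | (simp only [one_smul, Matrix.vecMulVec_add, Matrix.add_vecMulVec]; abel)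

theorem flip_fix_levi {A : GL (Fin (N + 2)) F} (he : (levi A).1 *ᵥ el 0 = (el 0 : Vec))
    (hf : (levi A).1 *ᵥ fr 0 = (fr 0 : Vec)) : Commute (flp 0 : SpN) (levi A) :=
  (((commute_tv he _).mul_right (commute_tv hf _)).mul_right (commute_tv he _)).symm

theorem flip_comm {i j : Fin (N + 2)} (h : i ≠ j) : Commute (flp i : SpN) (flp j) := by
  have he : (flp i : SpN).1 *ᵥ el j = el j := by rw [flip_el, if_neg h.symm]
  have hf : (flp i : SpN).1 *ᵥ fr j = fr j := by rw [flip_fr, if_neg h.symm]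
  exact ((commute_tv he _).mul_right (commute_tv hf _)).mul_right (commute_tv he _)

theorem conj_flip (i : Fin (N + 2)) :
    levi (pm (Equiv.swap 0 i)) * flp 0 * (levi (pm (Equiv.swap 0 i)))⁻¹ = (flp i : SpN) := by
  rw [CfsgLib.TwoGenCl.Symp.flip, CfsgLib.TwoGenCl.Symp.flip, ← conj_mul, ← conj_mul, conj_tv, conj_tv, levi_perm_el, levi_perm_fr, Equiv.swap_apply_left]

theorem dg_el (a : Fˣ) (i : Fin (N + 2)) :
    (levi (dg 0 a) : SpN).1 *ᵥ el i = (if i = 0 then (a : F) else 1) • el i := by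
  rw [levi_el, ← topv_bv, ← topv_smul]
  congr 1
  funext p
  rw [gv_dg]
  by_cases hi : i = 0 <;> by_cases hp : p = 0 <;> simp [hi, hp, Pi.single_apply, eq_comm (a := (0 : Fin (N + 2)))]

theorem dg_fr (a : Fˣ) (i : Fin (N + 2)) :
    (levi (dg 0 a) : SpN).1 *ᵥ fr i = (if i = 0 then ((a⁻¹ : Fˣ) : F) else 1) • fr i := by
  rw [levi_fr, ← map_inv]
  funext p
  rcases p with p | p
  · simp [fr]
  · simp only [Sum.elim_inr, gv_dg, Pi.smul_apply, fr, Pi.single_apply, Sum.inr.injEq, smul_eq_mul]
    by_cases hi : i = 0 <;> by_cases hp : p = 0 <;> simp [hi, hp, bv, Pi.single_apply, eq_comm (a := (0 : Fin (N + 2)))]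
    all_goals simp [eq_comm]

/-- The symplectic group satisfies everything. -/
def model : CellData F N SpN where
  D := DM
  H := model_quad ω gen
  n := flp 0
  hcE B := by
    refine flip_fix_levi (by rw [levi_el, gv_emb_bv0, topv_bv]) ?_
    rw [levi_fr, ← map_inv]
    funext p
    rcases p with p | p
    · simp [fr]
    · simp only [Sum.elim_inr, fr, Pi.single_apply, Sum.inr.injEq]
      refine Fin.cases ?_ (fun q => ?_) p
      · rw [gv_emb_bv0]; simp
      · have e : (bv q.succ : Fin (N + 2) → F) = Fin.cons 0 (Pi.single q 1) := by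
          funext r; refine Fin.cases ?_ (fun s => ?_) r <;> simp [(Fin.succ_ne_zero q).symm, Pi.single_apply]
        rw [e, gv_emb, Fin.cons_zero, if_neg (Fin.succ_ne_zero q)]
  hTω := by
    show flp 0 * levi (dg 0 ω) * (flp 0)⁻¹ = (levi (dg 0 ω))⁻¹
    rw [mul_inv_eq_iff_eq_mul, ← map_inv levi, ← map_inv (dg 0)]
    refine ext_basis (fun i => ?_) (fun i => ?_)
    · rw [mul_apply, mul_apply, dg_el, Matrix.mulVec_smul, flip_el]
      split_ifs with hi
      · subst hi; simp [-map_inv, Matrix.mulVec_neg, dg_fr]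
      · simp [-map_inv, dg_el, hi]
    · rw [mul_apply, mul_apply, dg_fr, Matrix.mulVec_smul, flip_fr]
      split_ifs with hi
      · subst hi; simp [-map_inv, dg_el]
      · simp [-map_inv, dg_fr, hi]
  hz1 := by
    have h : UT ((DM).Zv (bv 1) 1) _ := image_Zv DM (MonoidHom.id SpN) (fun _ => rfl) (fun u => rfl) (bv 1) 1
    rw [UT.eq h (UT_tv (bv 1) 1), topv_bv]
    exact commute_tv (by rw [flip_el, if_neg z01.symm]) _
  hn01 := by
    show Commute (flp 0) (levi (pm (Equiv.swap 0 1)) * flp 0 * (levi (pm (Equiv.swap 0 1)))⁻¹)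
    rw [conj_flip]
    exact flip_comm z01
  hT10 := by
    have h : UT (((DM).Bm (bv 0) (bv 1) (-1) : (DM).M) : SpN) _ :=
      image_Bm DM (MonoidHom.id SpN) (fun _ => rfl) (fun u => rfl) (bv 0) (bv 1) (-1)
    show flp 0 * levi (tr z01.symm 1) * (flp 0)⁻¹ = _
    rw [mul_inv_eq_iff_eq_mul]
    have hz := z01 (N := N)
    have te : ∀ i, (levi (tr z01.symm (1 : F)) : SpN).1 *ᵥ el i = el i + if i = 0 then el 1 else 0 := by
      intro i
      rw [levi_el, gv_tr, topv_add, topv_bv]
      congr 1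
      by_cases hi : i = 0
      · subst hi; simp [topv_bv]
      · simp [hi, topv, eq_comm (a := (0 : Fin (N + 2)))]
    have tf : ∀ i, (levi (tr z01.symm (1 : F)) : SpN).1 *ᵥ fr i = fr i - if i = 1 then fr 0 else 0 := by
      intro i
      rw [levi_fr, ← tr_neg]
      funext p
      rcases p with p | p
      · split_ifs <;> simp [fr]
      · simp only [Sum.elim_inr, gv_tr, Pi.add_apply, Pi.sub_apply, fr]
        by_cases hi : i = 1
        · subst hi
          by_cases hp : p = 0
          · subst hp; simp [hz, hz.symm]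
          · by_cases hp1 : p = 1
            · subst hp1; simp [hz, hz.symm]
            · simp [hp, hp1, Pi.single_apply, eq_comm (a := (0 : Fin (N + 2))), eq_comm (a := (1 : Fin (N + 2)))]
        · by_cases hp : p = i
          · subst hp; simp [hi]
          · simp [hi, hp, Ne.symm hp]
    have bve : ∀ (g : SpN) (S : Matrix (Fin (N + 2)) (Fin (N + 2)) F), UT g S → ∀ i,
        g.1 *ᵥ el i = el i ∧ g.1 *ᵥ fr i = fr i + topv (fun p => S p i) := by
      intro g S hg i
      constructor <;> rw [hg] <;> funext p <;> rcases p with p | p <;>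
        simp [el, fr, topv, Function.comp_def, Matrix.mulVec, dotProduct, Pi.single_apply]
    refine ext_basis (fun i => ?_) (fun i => ?_)
    · rw [mul_apply, mul_apply, te, flip_el]
      by_cases hi : i = 0
      · subst hi
        rw [if_pos rfl, if_pos rfl, Matrix.mulVec_add, flip_el, flip_el, if_pos rfl, if_neg hz.symm,
          Matrix.mulVec_neg, (bve _ _ h 0).2]
        have e : topv (fun p => ((-1 : F) • vecMulVec (bv 0) (bv 1) + (-1 : F) • vecMulVec (bv 1) (bv 0)
            : Matrix (Fin (N + 2)) (Fin (N + 2)) F) p 0) = -(el 1 : Vec) := by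
          funext p
          rcases p with p | p <;> simp [topv, el, vecMulVec_apply, hz, Pi.single_apply]
        rw [e]
        abel
      · rw [if_neg hi, if_neg hi, add_zero, flip_el, if_neg hi, (bve _ _ h i).1]
    · rw [mul_apply, mul_apply, tf, Matrix.mulVec_sub, flip_fr]
      by_cases hi : i = 1
      · subst hi
        rw [if_pos rfl, if_neg hz.symm, flip_fr, if_pos rfl, (bve _ _ h 1).2]
        have e : topv (fun p => ((-1 : F) • vecMulVec (bv 0) (bv 1) + (-1 : F) • vecMulVec (bv 1) (bv 0)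
            : Matrix (Fin (N + 2)) (Fin (N + 2)) F) p 1) = -(el 0 : Vec) := by
          funext p
          rcases p with p | p <;> simp [topv, el, vecMulVec_apply, hz.symm, Pi.single_apply]
        rw [e]
        abel
      · rw [if_neg hi, Matrix.mulVec_zero, sub_zero]
        by_cases h0 : i = 0
        · subst h0; rw [if_pos rfl, (bve _ _ h 0).1]
        · rw [if_neg h0, (bve _ _ h i).2]
          have e : topv (fun p => ((-1 : F) • vecMulVec (bv 0) (bv 1) + (-1 : F) • vecMulVec (bv 1) (bv 0)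
              : Matrix (Fin (N + 2)) (Fin (N + 2)) F) p i) = (0 : Vec) := by
            funext p
            rcases p with p | p <;> simp [topv, vecMulVec_apply, hi, h0]
          rw [e, add_zero]
  hB := by
    show tv (el 0) 1 * (flp 0 * tv (el 0) 1 * (flp 0)⁻¹) * tv (el 0) 1 = (flp 0 : SpN)
    rw [conj_tv, flip_el, if_pos rfl, ← neg_one_smul F (fr 0 : Vec), tv_smul, neg_one_sq, one_mul, CfsgLib.TwoGenCl.Symp.flip]
  hD := by
    show tv (el 0) (ω : F) * (flp 0 * tv (el 0) (ω : F)⁻¹ * (flp 0)⁻¹) * tv (el 0) (ω : F) =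
      levi (dg 0 ω) * (flp 0 : SpN)
    rw [conj_tv, flip_el, if_pos rfl, ← neg_one_smul F (fr 0 : Vec), tv_smul, neg_one_sq, one_mul]
    refine ext_basis (fun i => ?_) (fun i => ?_)
    · rw [mul_apply, mul_apply, mul_apply, flip_el]
      split_ifs with hi
      · subst hi
        simp [tv_apply, B_el_el, B_el_fr, B_fr_el, B_fr_fr, B_add_left, B_smul_left, Matrix.mulVec_neg,
          dg_fr]
      · simp [tv_apply, B_el_el, B_el_fr, B_fr_el, hi, dg_el]
    · rw [mul_apply, mul_apply, mul_apply, flip_fr]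
      split_ifs with hi
      · subst hi
        simp [tv_apply, B_el_el, B_el_fr, B_fr_el, B_fr_fr, B_add_left, B_smul_left, dg_el]
      · simp [tv_apply, B_el_el, B_el_fr, B_fr_el, B_fr_fr, hi, dg_fr]

end Model

section Generation

variable [Finite F]

theorem closure_model : Subgroup.closure
    (Set.range (levi : GL (Fin (N + 2)) F →* SpN) ∪ Set.range (fun u : F => (tv (el 0) u : SpN)) ∪
      {(flp 0 : SpN)}) = ⊤ := by
  set M := Subgroup.closure
    (Set.range (levi : GL (Fin (N + 2)) F →* SpN) ∪ Set.range (fun u : F => (tv (el 0) u : SpN)) ∪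
      {(flp 0 : SpN)})
  have hL : ∀ A, levi A ∈ M := fun A => Subgroup.subset_closure (Or.inl (Or.inl ⟨A, rfl⟩))
  have hn : (flp 0 : SpN) ∈ M := Subgroup.subset_closure (Or.inr rfl)
  have h0 : TI M (el 0 : Vec) := fun c => Subgroup.subset_closure (Or.inl (Or.inr ⟨c, rfl⟩))
  have htop : ∀ v : Fin (N + 2) → F, TI M (topv v) := by
    intro v
    by_cases hv : v = 0
    · subst hv
      have e : topv (0 : Fin (N + 2) → F) = 0 := by funext j; rcases j with j | j <;> simp [topv]
      rw [e]
      exact TI.zero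
    · obtain ⟨A, hA⟩ := exists_col hv
      have := h0.move (hL A)
      rwa [levi_el, hA] at this
  have hfr : ∀ i, TI M (fr i : Vec) := by
    intro i
    have h := (h0.move hn).move (hL (pm (Equiv.swap 0 i)))
    rw [flip_el, if_pos rfl, Matrix.mulVec_neg, levi_perm_fr, Equiv.swap_apply_left,
      ← neg_one_smul F (fr i : Vec)] at h
    exact h.of_smul (neg_ne_zero.2 one_ne_zero)
  refine top_of_TI (all_TI (fun i => ⟨?_, hfr i⟩) fun k hk => ?_)
  · have := htop (bv i)
    rwa [topv_bv] at this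
  · refine ⟨el 0, el k, fun i hi => supp_el 0 i fun e => hi ?_, supp_el k, by simp [el], by simp [el], ?_⟩
    · rw [Finset.mem_singleton.mp e, mem_below]
      simpa using hk
    · have := htop (bv 0 + bv k)
      rwa [topv_add, topv_bv, topv_bv] at this

/-- The relations give nothing more than the symplectic group. -/
theorem bijective_of {G : Type*} [Group G] (C : CellData F N G) (Φ : G →* SpN)
    (hψ : ∀ A, Φ (C.D.ψ A) = levi A) (hz : ∀ u, Φ (C.D.zz u) = tv (el 0) u) (hn : Φ C.n = flp 0)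
    (hgen : Subgroup.closure (Set.range C.D.ψ ∪ Set.range C.D.zz ∪ {C.n}) = ⊤) :
    Function.Bijective Φ := by
  have hP : ∀ x ∈ C.P, ∃ (S : Matrix (Fin (N + 2)) (Fin (N + 2)) F) (A : GL (Fin (N + 2)) F), S.transpose = S ∧
      x = (SymData.sig C.D S : G) * C.D.ψ A ∧
      ∀ v, (Φ x).1 *ᵥ topv v = topv (gv A v) := by
    rintro x ⟨m, hm, A, rfl⟩
    obtain ⟨S, hS, rfl⟩ := C.M_split hm
    refine ⟨S, A, hS, rfl, fun v => ?_⟩
    rw [map_mul, mul_apply, hψ, levi_topv, image_sig C.D Φ hψ hz C.H hS]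
    funext j
    rcases j with j | j <;> simp [topv, Function.comp_def, Matrix.mulVec, dotProduct]
  have hnn : ∀ i, Φ (C.nn i) = flp i := fun i => by
    rw [CellData.nn, map_mul, map_mul, map_inv, hψ, hn, conj_flip]
  refine ⟨C.injective Φ hgen (fun x hx h1 => ?_) (fun S hS => ?_), ?_⟩
  · obtain ⟨S, A, hS, rfl, hA⟩ := hP x hx
    have eA : A = 1 := gl_ext fun v => by
      have h2 := hA v
      rw [h1, one_apply] at h2
      rw [gv_one]
      exact funext fun i => congrFun h2.symm (Sum.inl i)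
    subst eA
    rw [map_one, mul_one] at h1 ⊢
    have hS0 : S = 0 := Matrix.ext_of_mulVec_single fun k => by
      have h2 := image_sig C.D Φ hψ hz C.H hS (Sum.elim 0 (Pi.single k 1))
      rw [h1, one_apply, Sum.elim_comp_inl, Sum.elim_comp_inr] at h2
      funext i
      have := congrFun h2 (Sum.inl i)
      simpa using this.symm
    rw [hS0, SymData.sig_zero]
    rfl
  · by_contra hne
    obtain ⟨i, hi⟩ := Finset.nonempty_iff_ne_empty.2 hne
    obtain ⟨x, hx, ex⟩ := hS
    obtain ⟨T, A, -, -, hA⟩ := hP x hx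
    have hfix : ∀ U : Finset (Fin (N + 2)), i ∉ U → (Φ (C.w U)).1 *ᵥ el i = el i := by
      intro U
      induction U using Finset.induction_on with
      | empty => intro _; rw [C.w_empty, map_one, one_apply]
      | insert a U ha ih =>
        intro h
        rw [Finset.mem_insert, not_or] at h
        rw [C.w_insert ha, map_mul, mul_apply, ih h.2, hnn, flip_el, if_neg h.1]
    have e1 : (Φ (C.w S)).1 *ᵥ el i = -fr i := by
      rw [← Finset.insert_erase hi, C.w_insert (Finset.notMem_erase _ _), map_mul, mul_apply,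
        hfix _ (Finset.notMem_erase _ _), hnn, flip_el, if_pos rfl]
    rw [← ex, ← topv_bv, hA] at e1
    have := congrFun e1 (Sum.inr i)
    simp [topv, fr] at this
  · rw [← MonoidHom.range_eq_top, eq_top_iff, ← closure_model, Subgroup.closure_le]
    rintro _ ((⟨A, rfl⟩ | ⟨u, rfl⟩) | rfl)
    · exact ⟨_, hψ A⟩
    · exact ⟨_, hz u⟩
    · exact ⟨_, hn⟩

end Generation

end CfsgLib.SpShort
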