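import Cfsg.Agent.Lib.SpShort.SymHom

/-!
# The symmetric matrices map onto the module
-/

namespace CfsgLib.SpShort

open Matrix

variable {F : Type*} [Field F] [Finite F] {N : ℕ} {G : Type*} [Group G]

namespace SymData

/-- The two relations on the pairing. -/
structure Quad (D : SymData F N G) : Prop where
  two : D.Bm (bv 0) ((D.ω : F) • bv 1) 1 = D.Bm (bv 0) (bv 1) (D.ω : F)
  three : ∀ j : Fin (N + 2), j.val = 2 →
    D.Bm (bv 0) (bv 1 + bv j) 1 = D.Bm (bv 0) (bv 1) 1 * D.Bm (bv 0) (bv j) 1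

theorem ss_ne_one {n : ℕ} (s : Fin n) : (Fin.succ (Fin.succ s) : Fin (n + 2)) ≠ 1 := by simp [Fin.ext_iff]

theorem one_ne_ss {n : ℕ} (s : Fin n) : (1 : Fin (n + 2)) ≠ Fin.succ (Fin.succ s) := (ss_ne_one s).symm

variable {D : SymData F N G} (H : D.Quad)

theorem gv_dg_pair {n : ℕ} {i j : Fin n} (hij : i ≠ j) (x y : Fˣ) :
    gv (dg i x * dg j y) (Pi.single i 1) = (x : F) • (Pi.single i 1 : Fin n → F) ∧
      gv (dg i x * dg j y) (Pi.single j 1) = (y : F) • (Pi.single j 1 : Fin n → F) := by
  constructor <;> funext p <;> simp only [gv_mul, gv_dg, Function.update_apply, Pi.single_apply, Pi.smul_apply,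
    smul_eq_mul, hij, Ne.symm hij, if_false, if_true]
  · by_cases hp : p = i
    · subst hp; simp [hij]
    · simp [hp]
  · by_cases hp : p = i
    · subst hp; simp [hij]
    · by_cases hq : p = j
      · subst hq; simp [hp]
      · simp [hp, hq]

include H in
theorem two_scaled (a : F) (ha : a ≠ 0) (u : F) :
    D.Bm (bv 0) ((a * (D.ω : F)) • bv 1) u = D.Bm (bv 0) (a • bv 1) ((D.ω : F) * u) := by
  revert u
  refine squares_induct (fun u => D.Bm (bv 0) ((a * (D.ω : F)) • bv 1) u = D.Bm (bv 0) (a • bv 1) ((D.ω : F) * u))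
    ?_ ?_ ?_ ?_
  · simp [Bm_zero]
  · intro b c hb hc; rw [Bm_add, hb, hc, mul_add, Bm_add]
  · intro b hb; rw [Bm_neg, hb, mul_neg, Bm_neg]
  intro c hc
  have e := congrArg (D.cjM (dg 0 (Units.mk0 c hc) * dg 1 (Units.mk0 (c * a) (mul_ne_zero hc ha)))) H.two
  rw [Bm_conj, Bm_conj, gv_smul] at e
  obtain ⟨e0, e1'⟩ := gv_dg_pair (z01 (N := N)) (Units.mk0 c hc) (Units.mk0 (c * a) (mul_ne_zero hc ha))
  rw [Units.val_mk0] at e0 e1'
  have e1 : gv (dg 0 (Units.mk0 c hc) * dg 1 (Units.mk0 (c * a) (mul_ne_zero hc ha))) (bv 1) =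
      c • (a • (bv 1 : Fin (N + 2) → F)) := by rw [smul_smul]; exact e1'
  rw [e0, e1, smul_comm (D.ω : F) c, smul_smul (D.ω : F) a, Bm_smul, Bm_smul, mul_one, mul_comm (D.ω : F) a] at e
  rw [e]
  congr 1
  ring

include H

theorem b_one (a u : F) : D.Bm (bv 0) (a • bv 1) u = D.Bm (bv 0) (bv 1) (a * u) := by
  by_cases ha : a = 0
  · subst ha; rw [zero_smul, zero_mul, Bm_zero_mid, Bm_zero]
  have key : ∀ (k : ℕ) (u : F), D.Bm (bv 0) (((D.ω : F) ^ k) • bv 1) u = D.Bm (bv 0) (bv 1) ((D.ω : F) ^ k * u) := by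
    intro k
    induction k with
    | zero => intro u; simp
    | succ k ih =>
      intro u
      rw [pow_succ, two_scaled H _ (pow_ne_zero _ D.ω.ne_zero), ih, mul_assoc]
  obtain ⟨k, hk⟩ := D.gen (Units.mk0 a ha)
  have : a = (D.ω : F) ^ k := by rw [← Units.val_pow_eq_pow_val, ← hk, Units.val_mk0]
  rw [this]
  exact key k u

theorem pair_eq {i j : Fin (N + 2)} (hij : i ≠ j) (a c u : F) :
    D.Bm (a • bv i) (c • bv j) u = D.Bm (bv i) (bv j) (a * c * u) := by
  have h01 : ∀ a c u : F, D.Bm (a • bv 0) (c • bv 1) u = D.Bm (bv 0) (bv 1) (a * c * u) := by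
    intro a c u
    by_cases ha : a = 0
    · subst ha; rw [zero_smul, Bm_zero_left, zero_mul, zero_mul, Bm_zero]
    have e : c • (bv 1 : Fin (N + 2) → F) = a • ((c / a) • bv 1) := by rw [smul_smul, mul_div_cancel₀ _ ha]
    rw [e, Bm_smul, b_one H]
    congr 1
    field_simp
  obtain ⟨π, h0, h1⟩ : ∃ π : Equiv.Perm (Fin (N + 2)), π 0 = i ∧ π 1 = j := by
    refine ⟨Equiv.swap (Equiv.swap 0 i 1) j * Equiv.swap 0 i, ?_, by simp⟩
    rw [Equiv.Perm.mul_apply, Equiv.swap_apply_left]
    refine Equiv.swap_apply_of_ne_of_ne (fun h => ?_) hij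
    exact z01 ((Equiv.swap (0 : Fin (N + 2)) i).injective ((Equiv.swap_apply_left _ _).trans h))
  have := congrArg (D.cjM (pm π)) (h01 a c u)
  rw [Bm_conj, Bm_conj, gv_smul, gv_smul, gv_pm_single, gv_pm_single, h0, h1] at this
  exact this

theorem split_three {i j : Fin (N + 2)} (hij : i ≠ j) (a c u : F) (w : Fin (N + 2) → F) (hwi : w i = 0)
    (hwj : w j = 0) :
    D.Bm (a • bv i) (c • bv j + w) u = D.Bm (a • bv i) (c • bv j) u * D.Bm (a • bv i) w u := by
  by_cases ha : a = 0
  · subst ha; simp [Bm_zero_left]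
  by_cases hc : c = 0
  · subst hc; simp [Bm_zero_mid]
  by_cases hw : w = 0
  · subst hw; simp [Bm_zero_mid]
  obtain ⟨π, h0, h1⟩ : ∃ π : Equiv.Perm (Fin (N + 2)), π 0 = i ∧ π 1 = j := by
    refine ⟨Equiv.swap (Equiv.swap 0 i 1) j * Equiv.swap 0 i, ?_, by simp⟩
    rw [Equiv.Perm.mul_apply, Equiv.swap_apply_left]
    refine Equiv.swap_apply_of_ne_of_ne (fun h => ?_) hij
    exact z01 ((Equiv.swap (0 : Fin (N + 2)) i).injective ((Equiv.swap_apply_left _ _).trans h))
  set w' : Fin (N + 2) → F := w ∘ π with hw'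
  have hw0 : w' 0 = 0 := by simp [hw', h0, hwi]
  have hw1 : w' 1 = 0 := by simp [hw', h1, hwj]
  have hwt : Fin.tail (Fin.tail w') ≠ 0 := by
    intro e
    apply hw
    funext p
    obtain ⟨q, rfl⟩ := π.surjective p
    show w' q = 0
    refine Fin.cases hw0 (fun r => ?_) q
    refine Fin.cases hw1 (fun s => ?_) r
    exact congrFun e s
  obtain ⟨N', rfl⟩ : ∃ N', N = N' + 1 := ⟨N - 1, by
    obtain ⟨s, -⟩ := Function.ne_iff.1 hwt
    have := s.isLt
    omega⟩
  obtain ⟨B, hB⟩ := exists_col hwt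
  let A : GL (Fin (N' + 1 + 2)) F :=
    pm π * (dg 0 (Units.mk0 a ha) * (dg 1 (Units.mk0 c hc) * emb (emb B)))
  have hA : ∀ (x y : F) (t : Fin (N' + 1) → F),
      gv A (Fin.cons x (Fin.cons y t)) = (Fin.cons (a * x) (Fin.cons (c * y) (gv B t))) ∘ π.symm := by
    intro x y t
    simp only [A, gv_mul, gv_emb, gv_dg, gv_pm]
    congr 1
    funext p
    refine Fin.cases ?_ (fun r => ?_) p
    · simp [(z01 (N := N' + 1))]
    · refine Fin.cases ?_ (fun s => ?_) r
      · simp [Function.update_apply]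
      · simp [Function.update_apply, Fin.succ_ne_zero, ss_ne_one]
  let j2 : Fin (N' + 1 + 2) := Fin.succ (Fin.succ 0)
  have hj2 : j2.val = 2 := by simp [j2]
  have eb0 : (bv 0 : Fin (N' + 1 + 2) → F) = Fin.cons 1 (Fin.cons 0 0) := by
    funext p
    refine Fin.cases ?_ (fun r => ?_) p
    · simp
    · refine Fin.cases ?_ (fun s => ?_) r <;> simp [Fin.succ_ne_zero]
  have eb1 : (bv 1 : Fin (N' + 1 + 2) → F) = Fin.cons 0 (Fin.cons 1 0) := by
    funext p
    refine Fin.cases ?_ (fun r => ?_) p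
    · simp
    · refine Fin.cases ?_ (fun s => ?_) r <;> simp [Fin.succ_ne_zero, ss_ne_one, Pi.single_apply]
  have eb2 : (bv j2 : Fin (N' + 1 + 2) → F) = Fin.cons 0 (Fin.cons 0 (Pi.single 0 1)) := by
    funext p
    refine Fin.cases ?_ (fun r => ?_) p
    · simp only [j2, Pi.single_apply, Fin.cons_zero, (Fin.succ_ne_zero _).symm, if_false]
    · refine Fin.cases ?_ (fun s => ?_) r <;>
        simp only [j2, Pi.single_apply, Fin.cons_zero, Fin.cons_succ, Fin.succ_inj, (Fin.succ_ne_zero _).symm, if_false]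
  have g0 : gv A (bv 0) = a • bv i := by
    rw [eb0, hA, gv_zero]
    funext p
    obtain ⟨q, rfl⟩ := π.surjective p
    rw [Function.comp_apply, Equiv.symm_apply_apply, Pi.smul_apply, ← h0]
    simp only [Pi.single_apply, π.injective.eq_iff, smul_eq_mul]
    refine Fin.cases ?_ (fun r => ?_) q
    · simp
    · refine Fin.cases ?_ (fun s => ?_) r <;> simp [Fin.succ_ne_zero]
  have g1 : gv A (bv 1) = c • bv j := by
    rw [eb1, hA, gv_zero]
    funext p
    obtain ⟨q, rfl⟩ := π.surjective p
    rw [Function.comp_apply, Equiv.symm_apply_apply, Pi.smul_apply, ← h1]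
    simp only [Pi.single_apply, π.injective.eq_iff, smul_eq_mul]
    refine Fin.cases ?_ (fun r => ?_) q
    · simp
    · refine Fin.cases ?_ (fun s => ?_) r <;> simp [Fin.succ_ne_zero, ss_ne_one]
  have g2 : gv A (bv j2) = w := by
    rw [eb2, hA, hB]
    funext p
    obtain ⟨q, rfl⟩ := π.surjective p
    rw [Function.comp_apply, Equiv.symm_apply_apply]
    show _ = w' q
    refine Fin.cases ?_ (fun r => ?_) q
    · simp [hw0]
    · refine Fin.cases ?_ (fun s => ?_) r
      · simp [hw1]
      · rfl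
  revert u
  refine squares_induct (fun u => D.Bm (a • bv i) (c • bv j + w) u =
    D.Bm (a • bv i) (c • bv j) u * D.Bm (a • bv i) w u) ?_ ?_ ?_ ?_
  · simp [Bm_zero]
  · intro b d hb hd
    rw [Bm_add, Bm_add, Bm_add, hb, hd, mul_mul_mul_comm]
  · intro b hb
    rw [Bm_neg, Bm_neg, Bm_neg, hb, mul_inv]
  intro s hs
  have e := congrArg (D.cjM A) (H.three j2 hj2)
  rw [map_mul, Bm_conj, Bm_conj, Bm_conj, gv_add, g0, g1, g2] at e
  -- a scalar matrix turns the value one into a square
  obtain ⟨S, hS⟩ : ∃ S : GL (Fin (N' + 1 + 2)) F, ∀ v, gv S v = s • v :=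
    ⟨mkGL (s • LinearMap.id) (s⁻¹ • LinearMap.id)
      (LinearMap.ext fun v => by simp [smul_smul, mul_inv_cancel₀ hs])
      (LinearMap.ext fun v => by simp [smul_smul, inv_mul_cancel₀ hs]), fun v => by rw [gv_mkGL]; rfl⟩
  have e2 := congrArg (D.cjM S) e
  rw [map_mul, Bm_conj, Bm_conj, Bm_conj, hS, hS, hS, hS, Bm_smul, Bm_smul, Bm_smul, mul_one] at e2
  exact e2

theorem expand (i : Fin (N + 2)) (a u : F) (v : Fin (N + 2) → F) (s : Finset (Fin (N + 2))) (hi : i ∉ s) :
    D.Bm (a • bv i) (∑ j ∈ s, v j • bv j) u = ∏ j ∈ s, D.Bm (bv i) (bv j) (a * v j * u) := by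
  classical
  induction s using Finset.induction_on with
  | empty => simp [Bm_zero_mid]
  | insert j s hj ih =>
    rw [Finset.mem_insert, not_or] at hi
    rw [Finset.sum_insert hj, Finset.prod_insert hj, split_three H hi.1, pair_eq H hi.1, ih hi.2]
    · rw [Finset.sum_apply]
      refine Finset.sum_eq_zero fun k hk => ?_
      have : i ≠ k := fun e => hi.2 (e ▸ hk)
      simp [Pi.single_eq_of_ne this]
    · rw [Finset.sum_apply]
      refine Finset.sum_eq_zero fun k hk => ?_
      have : j ≠ k := fun e => hj (e ▸ hk)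
      simp [Pi.single_eq_of_ne this]

omit H in
/-- The entrywise factor. -/
noncomputable def part (D : SymData F N G) (S : Matrix (Fin (N + 2)) (Fin (N + 2)) F) (i j : Fin (N + 2)) : D.M :=
  if i = j then D.Zm (bv i) (S i i) else if i < j then D.Bm (bv i) (bv j) (S i j) else 1

omit H in
/-- The map on matrices, reading the upper triangle. -/
noncomputable def sig (D : SymData F N G) (S : Matrix (Fin (N + 2)) (Fin (N + 2)) F) : D.M :=
  ∏ i, ∏ j, part D S i j

omit H in
theorem sig_add (D : SymData F N G) (S T : Matrix (Fin (N + 2)) (Fin (N + 2)) F) :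
    sig D (S + T) = sig D S * sig D T := by
  simp only [sig, ← Finset.prod_mul_distrib]
  refine Finset.prod_congr rfl fun i _ => Finset.prod_congr rfl fun j _ => ?_
  simp only [part]
  split_ifs <;> simp [Zm_add, Bm_add]

omit H in
theorem sig_zero (D : SymData F N G) : sig D 0 = 1 := by
  have := sig_add D 0 0
  rw [add_zero] at this
  exact left_eq_mul.1 this

theorem sig_rankOne (v : Fin (N + 2) → F) (u : F) : sig D (u • vecMulVec v v) = D.Zm v u := by
  classical
  have key : ∀ s : Finset (Fin (N + 2)), D.Zm (∑ j ∈ s, v j • bv j) u =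
      ∏ i ∈ s, ∏ j ∈ s, part D (u • vecMulVec v v) i j := by
    intro s
    induction s using Finset.induction_on with
    | empty => simp [Zm_zero]
    | insert a s ha ih =>
      have e : D.Zm (∑ j ∈ insert a s, v j • bv j) u = D.Bm (v a • bv a) (∑ j ∈ s, v j • bv j) u *
          (D.Zm (v a • bv a) u * D.Zm (∑ j ∈ s, v j • bv j) u) := by
        rw [Finset.sum_insert ha, Bm, div_mul_cancel]
      rw [e, expand H a _ u v s ha, ih, Zm_smul]
      have hp : ∀ j ∈ s, D.Bm (bv a) (bv j) (v a * v j * u) =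
          part D (u • vecMulVec v v) a j * part D (u • vecMulVec v v) j a := by
        intro j hj
        have hne : a ≠ j := fun e => ha (e ▸ hj)
        simp only [part, if_neg hne, if_neg hne.symm, Matrix.smul_apply, vecMulVec_apply, smul_eq_mul]
        rcases lt_or_gt_of_ne hne with h | h
        · rw [if_pos h, if_neg h.asymm, mul_one, mul_comm (v a * v j)]
        · rw [if_neg h.asymm, if_pos h, one_mul, Bm_symm]
          congr 1; ring
      have hd : part D (u • vecMulVec v v) a a = D.Zm (bv a) (v a * v a * u) := by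
        simp only [part, if_true, Matrix.smul_apply, vecMulVec_apply, smul_eq_mul]
        congr 1; ring
      rw [Finset.prod_congr rfl hp, Finset.prod_mul_distrib, ← hd,
        Finset.prod_insert ha, Finset.prod_insert ha]
      simp only [Finset.prod_insert ha, Finset.prod_mul_distrib]
      ac_rfl
  have := key Finset.univ
  rw [show ∑ j, v j • (bv j : Fin (N + 2) → F) = v by
    funext p; simp [Finset.sum_apply, Pi.single_apply]] at this
  exact this.symm

omit H [Finite F] in
theorem sym_induction (p : Matrix (Fin (N + 2)) (Fin (N + 2)) F → Prop) (h0 : p 0)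
    (hadd : ∀ S T, p S → p T → p (S + T)) (hv : ∀ (v : Fin (N + 2) → F) (u : F), p (u • vecMulVec v v))
    {S : Matrix (Fin (N + 2)) (Fin (N + 2)) F} (hS : S.transpose = S) : p S := by
  classical
  set g : Fin (N + 2) → Fin (N + 2) → Matrix (Fin (N + 2)) (Fin (N + 2)) F := fun i j =>
    if i = j then S i i • vecMulVec (bv i) (bv i)
    else if i < j then S i j • vecMulVec (bv i + bv j) (bv i + bv j) +
      ((-S i j) • vecMulVec (bv i) (bv i) + (-S i j) • vecMulVec (bv j) (bv j))
    else 0
  have e : S = ∑ i, ∑ j, g i j := by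
    ext a b
    have hab : S b a = S a b := congrFun (congrFun hS a) b
    simp only [Matrix.sum_apply]
    have hg : ∀ i j, g i j a b = (if i = a ∧ j = b ∧ i ≤ j then S a b else 0) +
        (if i = b ∧ j = a ∧ i < j then S a b else 0) := by
      intro i j
      simp only [g]
      rcases lt_trichotomy i j with h | h | h
      · simp only [h.ne, h, h.le, if_false, if_true, and_true, Matrix.add_apply, Matrix.smul_apply, vecMulVec_apply,
          Pi.add_apply, Pi.single_apply, smul_eq_mul]
        by_cases h1 : a = i <;> by_cases h2 : a = j <;> by_cases h3 : b = i <;> by_cases h4 : b = j <;>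
          first | (exfalso; exact h.ne (h1.symm.trans h2)) | (exfalso; exact h.ne (h3.symm.trans h4)) |
            (subst h1; subst h4; simp [h.ne, h.ne']; done) | (subst h2; subst h3; simp [h.ne, h.ne', hab]; done) |
            (simp [h1, h2, h3, h4, h.ne, h.ne', eq_comm (a := i), eq_comm (a := j)]; done)
      · subst h
        simp only [if_true, lt_irrefl, and_false, if_false, add_zero, le_refl, and_true, Matrix.smul_apply,
          vecMulVec_apply, Pi.single_apply, smul_eq_mul]
        by_cases h1 : a = i <;> by_cases h3 : b = i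
        · subst h1; subst h3; simp
        all_goals simp [h1, h3, eq_comm (a := i)]
      · simp [h.ne', h.asymm, not_le.2 h]
    simp only [hg, Finset.sum_add_distrib]
    rcases le_or_gt a b with h | h
    · rw [Finset.sum_eq_single a (fun i _ hi => by simp [hi]) (by simp),
        Finset.sum_eq_single b (fun i _ hi => by simp [hi]) (by simp)]
      simp [h]
      refine Finset.sum_eq_zero fun i _ => Finset.sum_eq_zero fun j _ => if_neg ?_
      rintro ⟨rfl, rfl, hlt⟩
      exact absurd h (not_le.2 hlt)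
    · rw [Finset.sum_eq_zero fun i _ => Finset.sum_eq_zero fun j _ => if_neg ?_,
        Finset.sum_eq_single b (fun i _ hi => by simp [hi]) (by simp),
        Finset.sum_eq_single a (fun i _ hi => by simp [hi]) (by simp)]
      · simp [h]
      · rintro ⟨rfl, rfl, hle⟩
        exact absurd h (not_lt.2 hle)
  rw [e]
  refine Finset.sum_induction _ p hadd h0 fun i _ => Finset.sum_induction _ p hadd h0 fun j _ => ?_
  simp only [g]
  split_ifs
  · exact hv _ _
  · exact hadd _ _ (hv _ _) (hadd _ _ (hv _ _) (hv _ _))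
  · exact h0

theorem sig_conj (A : GL (Fin (N + 2)) F) {S : Matrix (Fin (N + 2)) (Fin (N + 2)) F} (hS : S.transpose = S) :
    D.ψ A * sig D S * (D.ψ A)⁻¹ = (sig D (A.1 * S * A.1.transpose) : G) := by
  refine sym_induction (fun S => D.ψ A * (sig D S : G) * (D.ψ A)⁻¹ = (sig D (A.1 * S * A.1.transpose) : G))
    ?_ ?_ ?_ hS
  · simp [sig_zero]
  · intro S T h1 h2
    rw [sig_add, mul_add, add_mul, sig_add, Subgroup.coe_mul, Subgroup.coe_mul, ← h1, ← h2]
    group
  · intro v u
    rw [sig_rankOne H, Matrix.mul_smul, Matrix.smul_mul, mul_vecMulVec, vecMulVec_mul, vecMul_transpose,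
      sig_rankOne H]
    exact D.Zv_conj A v u

theorem sig_single (u : F) : (sig D (Matrix.single 0 0 u) : G) = D.zz u := by
  have e : Matrix.single (0 : Fin (N + 2)) (0 : Fin (N + 2)) u =
      u • vecMulVec (bv (0 : Fin (N + 2)) : Fin (N + 2) → F) (bv (0 : Fin (N + 2))) := by
    ext i j
    simp only [Matrix.single_apply, Matrix.smul_apply, vecMulVec_apply, Pi.single_apply, smul_eq_mul]
    split_ifs <;> simp_all
  rw [e, sig_rankOne H]
  exact D.Zv_bv u

end SymData

end CfsgLib.SpShort
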